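import Cfsg.Agent.RepBounds.Weil
import Cfsg.Agent.Characters.RepBasic

/-!
# Both halves of the Weil representation are irreducible

The operators `P_g` have commutant spanned by `1` and `S = ∑ τ x` when the group is transitive on non-zero
vectors; with the scalar of `exists_rep_of_projective` they give a representation on the whole space, whose two
halves are therefore irreducible.
-/

set_option autoImplicit false

namespace CfsgLib.WeilRankOne

open Matrix Module CfsgLib.GaloisAverage CfsgLib.RepBounds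

universe u

section general

variable {G : Type*} [Group G] {V : Type*} [AddCommGroup V] [Module ℂ V] [FiniteDimensional ℂ V]

/-- Scalar commutant implies irreducible. -/
theorem isIrreducible_of_scalar [Finite G] [Nontrivial V] (ρ : Representation ℂ G V)
    (h : ∀ f : End ℂ V, (∀ g, ρ g * f = f * ρ g) → ∃ a : ℂ, f = a • 1) : ρ.IsIrreducible := by
  have : NeZero (Nat.card G : ℂ) := ⟨Nat.cast_ne_zero.mpr Nat.card_pos.ne'⟩
  refine CfsgLib.Characters.isIrreducible_of_forall ρ fun U hU => ?_
  obtain ⟨T, hT⟩ := CfsgLib.Characters.exists_compl ρ ⟨U, fun g v hv => hU g v hv⟩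
  have hT' : IsCompl U T.toSubmodule := hT
  obtain ⟨a, ha⟩ := h (U.projection T.toSubmodule hT') fun g => LinearMap.ext fun x => by
    obtain ⟨u, hu, t, ht, rfl⟩ := Submodule.mem_sup.mp (show x ∈ U ⊔ T.toSubmodule by
      rw [hT'.sup_eq_top]; trivial)
    have e1 : U.projection T.toSubmodule hT' u = u := Submodule.projection_apply_left hT' ⟨u, hu⟩
    have e2 : U.projection T.toSubmodule hT' t = 0 := (Submodule.projection_apply_eq_zero_iff hT').mpr ht
    have e3 : U.projection T.toSubmodule hT' (ρ g u) = ρ g u :=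
      Submodule.projection_apply_left hT' ⟨_, hU g u hu⟩
    have e4 : U.projection T.toSubmodule hT' (ρ g t) = 0 :=
      (Submodule.projection_apply_eq_zero_iff hT').mpr (T.apply_mem_toSubmodule g ht)
    simp only [Module.End.mul_apply, map_add, e1, e2, e3, e4, add_zero, map_zero]
  rcases eq_or_ne a 0 with rfl | ha0
  · left
    rw [eq_bot_iff]
    intro u hu
    have e1 : U.projection T.toSubmodule hT' u = u := Submodule.projection_apply_left hT' ⟨u, hu⟩
    rw [Submodule.mem_bot, ← e1, ha, zero_smul, LinearMap.zero_apply]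
  · right
    rw [eq_top_iff]
    intro v _
    obtain ⟨u, hu, t, ht, rfl⟩ := Submodule.mem_sup.mp (show v ∈ U ⊔ T.toSubmodule by
      rw [hT'.sup_eq_top]; trivial)
    have e2 : U.projection T.toSubmodule hT' t = 0 := (Submodule.projection_apply_eq_zero_iff hT').mpr ht
    rw [ha] at e2
    simp only [LinearMap.smul_apply, Module.End.one_apply, smul_eq_zero, ha0, false_or] at e2
    rw [e2, add_zero]; exact hu

/-- The representation on the range of a commuting idempotent. -/
noncomputable def rangeRep (R : G →* End ℂ V) (q : End ℂ V) (hq : ∀ g, R g * q = q * R g) :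
    Representation ℂ G (LinearMap.range q) where
  toFun g := onRange q (R g) (hq g)
  map_one' := LinearMap.ext fun x => Subtype.ext (by rw [onRange_apply, map_one]; rfl)
  map_mul' g h := LinearMap.ext fun x => Subtype.ext (by rw [onRange_apply, map_mul]; rfl)

theorem rangeRep_irreducible [Finite G] (R : G →* End ℂ V) (q : End ℂ V) (hqq : q * q = q)
    (hq : ∀ g, R g * q = q * R g) (hpos : 0 < finrank ℂ (LinearMap.range q))
    (hcomm : ∀ T : End ℂ V, (∀ g, R g * T = T * R g) → ∃ a : ℂ, T * q = a • q) :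
    (rangeRep R q hq).IsIrreducible := by
  have : Nontrivial (LinearMap.range q) := Module.nontrivial_of_finrank_pos (R := ℂ) hpos
  refine isIrreducible_of_scalar _ fun f hf => ?_
  have hfix : ∀ w : LinearMap.range q, q.rangeRestrict w.1 = w := fun w => by
    obtain ⟨z, hz⟩ := w.2
    exact Subtype.ext (by rw [LinearMap.codRestrict_apply, ← hz, ← Module.End.mul_apply, hqq])
  obtain ⟨a, ha⟩ := hcomm ((LinearMap.range q).subtype ∘ₗ f ∘ₗ q.rangeRestrict) fun g =>
    LinearMap.ext fun x => by
      have h1 := congrArg Subtype.val (LinearMap.congr_fun (hf g) (q.rangeRestrict x))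
      have h2 : q.rangeRestrict (R g x) = (rangeRep R q hq g) (q.rangeRestrict x) :=
        Subtype.ext (LinearMap.congr_fun (hq g) x).symm
      simp only [Module.End.mul_apply, LinearMap.comp_apply, Submodule.coe_subtype, h2] at h1 ⊢
      exact h1
  refine ⟨a, LinearMap.ext fun w => Subtype.ext ?_⟩
  have h3 := LinearMap.congr_fun ha w.1
  have hqw : q w.1 = w.1 := congrArg Subtype.val (hfix w)
  simp only [Module.End.mul_apply, LinearMap.comp_apply, Submodule.coe_subtype, LinearMap.smul_apply, hqw,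
    hfix] at h3
  simpa using h3

end general

variable {p : ℕ} [Fact p.Prime] {W : Type u} [AddCommGroup W] [Module (ZMod p) W] [Fintype W]

/-- Both halves. -/
theorem exists_halves (B : W →ₗ[ZMod p] W →ₗ[ZMod p] ZMod p) (hB : ∀ x, (∀ z, B x z = B z x) → x = 0)
    (halt : ∀ x, B x x = 0) {G : Type*} [Group G] [Finite G] (act : G → W ≃+ W)
    (hact : ∀ g x z, B (act g x) (act g z) = B x z) (hone : ∀ x, act 1 x = x)
    (hmul : ∀ g h x, act (g * h) x = act g (act h x))
    (htrans : ∀ x z : W, x ≠ 0 → z ≠ 0 → ∃ g, act g x = z) {d b : ℕ} (hd : d ^ 2 = Fintype.card W)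
    (hdb : d = 2 * b + 1) (hb : 1 ≤ b) :
    (∃ ρ : Representation ℂ G (Fin b → ℂ), ρ.IsIrreducible) ∧
      ∃ ρ : Representation ℂ G (Fin (b + 1) → ℂ), ρ.IsIrreducible := by
  classical
  obtain ⟨d', τ, hτ⟩ := exists_twisted B hB
  obtain rfl : d' = d := Nat.pow_left_injective two_ne_zero (hτ.dim_sq.trans hd.symm)
  have hanti : ∀ x z, B z x = -B x z := fun x z => by
    have := halt (x + z)
    simp only [map_add, LinearMap.add_apply, halt, zero_add, add_zero] at this
    exact eq_neg_of_add_eq_zero_left this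
  set S : Matrix (Fin d') (Fin d') ℂ := ∑ y, τ y with hS
  have hSS : S * S = (Fintype.card W : ℂ) • 1 := by
    rw [hS, Finset.sum_mul_sum]
    simp only [hτ.map_mul]
    have h1 : ∀ x : W, ∑ z : W, pc p (B x z) • τ (x + z) = ∑ w : W, pc p (B x w) • τ w := fun x => by
      refine Fintype.sum_equiv (Equiv.addLeft x) _ _ fun z => ?_
      rw [Equiv.coe_addLeft, map_add, halt, zero_add]
    simp only [h1]
    rw [Finset.sum_comm]
    simp only [← Finset.sum_smul]
    rw [Finset.sum_eq_single (0 : W)]
    · simp [hτ.map_zero, pc_zero]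
    · intro w _ hw
      have hne : (pc p).compAddMonoidHom (B.flip w).toAddMonoidHom ≠ 0 := by
        intro h
        apply hw
        refine hB w fun z => ?_
        have h2 := DFunLike.congr_fun h z
        rw [AddChar.compAddMonoidHom_apply, AddChar.zero_apply] at h2
        have h3 : B z w = 0 := pc_eq_one_iff.mp h2
        rw [h3, hanti z w, h3, neg_zero]
      have h4 : ∑ x : W, pc p (B x w) = ∑ x : W, (pc p).compAddMonoidHom (B.flip w).toAddMonoidHom x := rfl
      rw [h4, AddChar.sum_eq_ite, if_neg hne, zero_smul]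
    · simp
  have hd0 : (d' : ℂ) ≠ 0 := Nat.cast_ne_zero.mpr hτ.pos.ne'
  have hcard : (Fintype.card W : ℂ) = (d' : ℂ) * d' := by rw [← hd, pow_two, Nat.cast_mul]
  have htrS : S.trace = d' := by
    rw [hS, trace_sum, Finset.sum_eq_single (0 : W) (fun x _ hx => hτ.trace_eq_zero hx) (by simp),
      hτ.map_zero, trace_one, Fintype.card_fin]
  let Φ : Matrix (Fin d') (Fin d') ℂ ≃ₐ[ℂ] End ℂ (Fin d' → ℂ) := Matrix.toLinAlgEquiv'
  obtain ⟨E, hE⟩ : ∃ E : Matrix (Fin d') (Fin d') ℂ, E = (2 : ℂ)⁻¹ • (1 - (d' : ℂ)⁻¹ • S) := ⟨_, rfl⟩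
  have hEE : E * E = E := by
    simp only [hE, smul_mul_smul_comm, sub_mul, mul_sub, one_mul, mul_one, smul_mul_assoc, mul_smul_comm, hSS,
      smul_smul, hcard]
    match_scalars <;> field_simp <;> ring
  have hSE : S * E = -(d' : ℂ) • E := by
    simp only [hE, mul_smul_comm, mul_sub, mul_one, hSS, smul_smul, hcard, smul_sub, neg_smul]
    match_scalars <;> field_simp
  have hSE' : S * (1 - E) = (d' : ℂ) • (1 - E) := by
    rw [mul_sub, mul_one, hSE, hE]
    match_scalars <;> field_simp <;> ring
  have htrE : E.trace = (b : ℂ) := by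
    rw [hE, trace_smul, trace_sub, trace_smul, trace_one, Fintype.card_fin, htrS]
    simp only [smul_eq_mul]
    rw [inv_mul_cancel₀ hd0, hdb]; push_cast
    ring
  obtain ⟨e, he⟩ : ∃ e, e = Φ E := ⟨_, rfl⟩
  have hee : IsIdempotentElem e := by rw [IsIdempotentElem, he, ← map_mul, hEE]
  have hrank : finrank ℂ (LinearMap.range e) = b := by
    apply Nat.cast_injective (R := ℂ)
    rw [← LinearMap.IsProj.trace ((LinearMap.isProj_range_iff_isIdempotentElem e).mpr hee), ← htrE]
    rw [he]
    exact Matrix.trace_toLin'_eq E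
  have hrank' : finrank ℂ (LinearMap.range (1 - e)) = b + 1 := by
    apply Nat.cast_injective (R := ℂ)
    rw [← LinearMap.IsProj.trace ((LinearMap.isProj_range_iff_isIdempotentElem (1 - e)).mpr hee.one_sub), map_sub,
      LinearMap.trace_one, LinearMap.IsProj.trace ((LinearMap.isProj_range_iff_isIdempotentElem e).mpr hee),
      hrank, Module.finrank_fin_fun, hdb]
    push_cast; ring
  have hex : ∀ g, ∃ P : Matrix (Fin d') (Fin d') ℂ, P.det = 1 ∧ ∀ x, P * τ x = τ (act g x) * P :=
    fun g => hτ.exists_intertwiner (hact g)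
  choose P hPdet hP using hex
  have hPS : ∀ g, P g * S = S * P g := fun g => by
    rw [hS, Finset.mul_sum, Finset.sum_mul]
    simp only [hP]
    exact Fintype.sum_equiv (act g).toEquiv _ _ fun x => rfl
  have hPE : ∀ g, P g * E = E * P g := fun g => by
    simp only [hE, mul_smul_comm, smul_mul_assoc, mul_sub, sub_mul, mul_one, one_mul, hPS]
  have hinv : ∀ g, IsUnit (P g).det := fun g => by rw [hPdet]; exact isUnit_one
  have hk : ∀ g h, ∃ k : ℂ, P g * P h = k • P (g * h) := by
    intro g h
    obtain ⟨c, hc⟩ := hτ.schur ((P (g * h))⁻¹ * (P g * P h)) fun x => by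
      have h1 : (P g * P h) * τ x = τ (act (g * h) x) * (P g * P h) := by
        rw [mul_assoc, hP, ← mul_assoc, hP, hmul, mul_assoc]
      have h2 : (P (g * h))⁻¹ * τ (act (g * h) x) = τ x * (P (g * h))⁻¹ := by
        calc (P (g * h))⁻¹ * τ (act (g * h) x)
            = (P (g * h))⁻¹ * (τ (act (g * h) x) * P (g * h)) * (P (g * h))⁻¹ := by
              rw [mul_assoc, mul_assoc (τ _), Matrix.mul_nonsing_inv _ (hinv _), mul_one]
          _ = _ := by rw [← hP, ← mul_assoc, Matrix.nonsing_inv_mul _ (hinv _), one_mul]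
      rw [mul_assoc, h1, ← mul_assoc, h2, mul_assoc]
    refine ⟨c, ?_⟩
    calc P g * P h = P (g * h) * ((P (g * h))⁻¹ * (P g * P h)) := by
          rw [← mul_assoc, Matrix.mul_nonsing_inv _ (hinv _), one_mul]
      _ = _ := by rw [hc, mul_smul_comm, mul_one]
  choose k hk using hk
  obtain ⟨k₁, hk₁⟩ : ∃ k₁ : ℂ, P 1 = k₁ • 1 := hτ.schur (P 1) fun x => by rw [hP, hone]
  obtain ⟨ρ, hρ⟩ := exists_rep_of_projective e (fun g => Φ (P g))
    (fun g => by rw [he, ← map_mul, ← map_mul, hPE])
    (fun g => ⟨Φ (P g)⁻¹, by rw [← map_mul, Matrix.mul_nonsing_inv _ (hinv g), map_one],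
      by rw [← map_mul, Matrix.nonsing_inv_mul _ (hinv g), map_one]⟩)
    k (fun g h => by rw [← map_mul, hk, map_smul]) k₁ (by rw [hk₁, map_smul, map_one]) (by rw [hrank', hrank])
  choose c hc0 hcρ using hρ
  obtain ⟨v, hv⟩ : ∃ v : LinearMap.range e, v ≠ 0 := by
    have : Nontrivial (LinearMap.range e) := Module.nontrivial_of_finrank_pos (R := ℂ) (by omega)
    exact exists_ne 0
  have hρv : ∀ g, ρ g v ≠ 0 := fun g h => hv (by
    have h1 : ρ g⁻¹ (ρ g v) = v := by rw [← Module.End.mul_apply, ← map_mul, inv_mul_cancel, map_one]; rfl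
    rw [← h1, h, map_zero])
  have hPv : ∀ g, Φ (P g) v.1 ≠ 0 := fun g h => hρv g (Subtype.ext (by
    rw [hcρ g, LinearMap.smul_apply, SetLike.val_smul, onRange_apply, h, smul_zero]; rfl))
  have hcmul : ∀ g h, c g * c h * k g h = c (g * h) := by
    intro g h
    refine smul_left_injective ℂ (hPv (g * h)) ?_
    have h1 := congrArg Subtype.val (LinearMap.congr_fun (map_mul ρ g h) v)
    simp only [hcρ, Module.End.mul_apply, LinearMap.smul_apply, SetLike.val_smul, onRange_apply, map_smul] at h1
    show (c g * c h * k g h) • Φ (P (g * h)) v.1 = c (g * h) • Φ (P (g * h)) v.1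
    rw [h1, ← Module.End.mul_apply (Φ (P g)), ← map_mul, hk, map_smul, LinearMap.smul_apply, smul_smul,
      smul_smul, mul_comm (c g) (c h)]
  have hc1 : c 1 * k₁ = 1 := by
    refine smul_left_injective ℂ (show v.1 ≠ 0 from fun h => hv (Subtype.ext h)) ?_
    have h1 := congrArg Subtype.val (LinearMap.congr_fun (map_one ρ) v)
    simp only [hcρ, LinearMap.smul_apply, SetLike.val_smul, onRange_apply, hk₁, map_smul, map_one,
      Module.End.one_apply, smul_smul] at h1
    show (c 1 * k₁) • v.1 = (1 : ℂ) • v.1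
    rw [h1, one_smul]
  let R : G →* End ℂ (Fin d' → ℂ) :=
    { toFun := fun g => c g • Φ (P g)
      map_one' := by rw [hk₁, map_smul, map_one, smul_smul, hc1, one_smul]
      map_mul' := fun g h => by
        rw [smul_mul_smul_comm, ← map_mul, hk, map_smul, smul_smul, hcmul] }
  have hR : ∀ g, R g = c g • Φ (P g) := fun _ => rfl
  have hRe : ∀ g, R g * e = e * R g := fun g => by
    rw [hR, smul_mul_assoc, mul_smul_comm, he, ← map_mul, ← map_mul, hPE]
  have hRe' : ∀ g, R g * (1 - e) = (1 - e) * R g := fun g => by rw [mul_sub, sub_mul, mul_one, one_mul, hRe]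
  have htrτ : ∀ x, (τ x).trace = if x = 0 then (d' : ℂ) else 0 := fun x => by
    split_ifs with h
    · rw [h, hτ.map_zero, trace_one, Fintype.card_fin]
    · exact hτ.trace_eq_zero h
  have hlin : LinearIndependent ℂ τ := by
    rw [Fintype.linearIndependent_iff]
    intro a ha y
    have h1 := congrArg (fun M => (M * IsTwisted.inv' τ (fun x z => B x z) y).trace) ha
    simp only [Finset.sum_mul, smul_mul_assoc, trace_sum, trace_smul, zero_mul, trace_zero] at h1
    rw [Finset.sum_eq_single y (fun x _ hx => by rw [hτ.trace_mul_inv' hx, smul_zero]) (by simp),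
      hτ.mul_inv', trace_one, Fintype.card_fin, smul_eq_mul, mul_eq_zero] at h1
    exact h1.resolve_right hd0
  have hspan : Submodule.span ℂ (Set.range τ) = ⊤ := hlin.span_eq_top_of_card_eq_finrank (by
    rw [Module.finrank_matrix, Module.finrank_self, Fintype.card_fin, mul_one, ← hd, pow_two])
  have hzero : ∀ Z : Matrix (Fin d') (Fin d') ℂ, (∀ x, (Z * τ x).trace = 0) → Z = 0 := by
    intro Z hZ
    have hall : ∀ Y : Matrix (Fin d') (Fin d') ℂ, (Z * Y).trace = 0 := fun Y => by
      have hY : Y ∈ Submodule.span ℂ (Set.range τ) := hspan ▸ Submodule.mem_top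
      induction hY using Submodule.span_induction with
      | mem y hy => obtain ⟨x, rfl⟩ := hy; exact hZ x
      | zero => rw [mul_zero, trace_zero]
      | add y y' _ _ hy hy' => rw [mul_add, trace_add, hy, hy', add_zero]
      | smul a y _ hy => rw [mul_smul_comm, trace_smul, hy, smul_zero]
    ext r l
    have := hall (Matrix.single l r 1)
    simpa [Matrix.trace, Matrix.diag_apply, Matrix.mul_apply, Matrix.single_apply, ite_and,
      Finset.sum_ite_eq, Finset.sum_ite_eq'] using this
  obtain ⟨x₀, hx₀⟩ : ∃ x : W, x ≠ 0 := by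
    by_contra h
    push Not at h
    have : Subsingleton W := ⟨fun a c => by rw [h a, h c]⟩
    have := Fintype.card_le_one_iff_subsingleton.mpr this
    nlinarith
  have hcomm : ∀ T : End ℂ (Fin d' → ℂ), (∀ g, R g * T = T * R g) →
      ∃ α β : ℂ, T = α • 1 + β • Φ S := by
    intro T hT
    obtain ⟨M, rfl⟩ := Φ.surjective T
    have hPM : ∀ g, P g * M = M * P g := fun g => Φ.injective (by
      rw [map_mul, map_mul]
      refine smul_right_injective _ (hc0 g) ?_
      show c g • (Φ (P g) * Φ M) = c g • (Φ M * Φ (P g))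
      rw [← smul_mul_assoc, ← hR, hT, hR, mul_smul_comm])
    have hinvar : ∀ g x, (M * τ (act g x)).trace = (M * τ x).trace := by
      intro g x
      have h1 : τ (act g x) = P g * τ x * (P g)⁻¹ := by
        rw [hP, mul_assoc, Matrix.mul_nonsing_inv _ (hinv g), mul_one]
      rw [h1, ← mul_assoc, ← mul_assoc, ← hPM, trace_mul_comm, ← mul_assoc, ← mul_assoc,
        Matrix.nonsing_inv_mul _ (hinv g), one_mul]
    set β := (M * τ x₀).trace / d' with hβ
    set α := (M * τ 0).trace / d' - β with hα
    refine ⟨α, β, ?_⟩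
    rw [← map_one Φ, ← map_smul, ← map_smul, ← map_add]
    congr 1
    refine sub_eq_zero.mp (hzero _ fun x => ?_)
    have hSx : (S * τ x).trace = d' := by
      rw [hS, Finset.sum_mul, trace_sum]
      simp only [hτ.map_mul, trace_smul, htrτ]
      rw [Finset.sum_eq_single (-x) (fun y _ hy => by
        rw [if_neg (fun h => hy (eq_neg_of_add_eq_zero_left h)), smul_zero]) (by simp)]
      rw [if_pos (neg_add_cancel x), map_neg, LinearMap.neg_apply, halt, neg_zero, pc_zero, one_smul]
    rw [sub_mul, trace_sub, add_mul, trace_add, smul_mul_assoc, smul_mul_assoc, one_mul, trace_smul,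
      trace_smul, hSx, htrτ, smul_eq_mul, smul_eq_mul]
    by_cases hx : x = 0
    · subst hx
      rw [if_pos rfl, hα]
      field_simp
      ring
    · obtain ⟨g, rfl⟩ := htrans x₀ x hx₀ hx
      rw [if_neg hx, hinvar, hβ]
      field_simp
      ring
  have hΦSe : Φ S * e = -(d' : ℂ) • e := by rw [he, ← map_mul, hSE, map_smul]
  have hΦSe' : Φ S * (1 - e) = (d' : ℂ) • (1 - e) := by
    rw [he, ← map_one Φ, ← map_sub, ← map_mul, hSE', map_smul]
  have mk : ∀ (q : End ℂ (Fin d' → ℂ)) (hq : ∀ g, R g * q = q * R g) (r : ℕ) (s : ℂ),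
      q * q = q → Φ S * q = s • q → finrank ℂ (LinearMap.range q) = r → 0 < r →
      ∃ σ : Representation ℂ G (Fin r → ℂ), σ.IsIrreducible := by
    intro q hq r s hqq hs hr hpos
    have hirr := rangeRep_irreducible R q hqq hq (by omega) (fun T hT => by
      obtain ⟨α, β, rfl⟩ := hcomm T hT
      exact ⟨α + β * s, by rw [add_mul, smul_mul_assoc, smul_mul_assoc, one_mul, hs, smul_smul, ← add_smul]⟩)
    let η : LinearMap.range q ≃ₗ[ℂ] (Fin r → ℂ) :=
      (Module.finBasisOfFinrankEq ℂ (LinearMap.range q) hr).equivFun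
    exact ⟨CfsgLib.Characters.transport (rangeRep R q hq) η,
      (CfsgLib.Characters.isIrreducible_congr (CfsgLib.Characters.transportEquiv _ η)).1 hirr⟩
  exact ⟨mk e hRe b _ hee.eq hΦSe hrank (by omega),
    mk (1 - e) hRe' (b + 1) _ hee.one_sub.eq hΦSe' hrank' (by omega)⟩

end CfsgLib.WeilRankOne
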