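import Cfsg.Agent.WeilRankOne.Classify
import Cfsg.Agent.WeilRankOne.Halves
import Cfsg.Agent.S2347

/-!
# The four small characters of `Sp_{2n}(q)`, `q` odd

Both halves of the Weil representation, and their twists by a similitude, give one irreducible representation
of each of the two degrees in each of the two classes.
-/

set_option autoImplicit false

namespace CfsgLib.WeilRankOne

open Matrix CfsgLib.RepBounds CfsgLib.Forms CfsgLib.Forms4 Module

variable {F : Type*} [Field F] [Fintype F] {n : ℕ}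

omit [Fintype F] in
theorem twist_mem (ν : Fˣ) {X : Matrix (Fin n ⊕ Fin n) (Fin n ⊕ Fin n) F}
    (hX : X ∈ Matrix.symplecticGroup (Fin n) F) :
    Matrix.fromBlocks 1 0 0 (((ν⁻¹ : Fˣ) : F) • 1) * X * Matrix.fromBlocks 1 0 0 ((ν : F) • 1) ∈
      Matrix.symplecticGroup (Fin n) F := by
  rw [SymplecticGroup.mem_iff] at hX ⊢
  set D : Matrix (Fin n ⊕ Fin n) (Fin n ⊕ Fin n) F := Matrix.fromBlocks 1 0 0 ((ν : F) • 1) with hD
  set D' : Matrix (Fin n ⊕ Fin n) (Fin n ⊕ Fin n) F := Matrix.fromBlocks 1 0 0 (((ν⁻¹ : Fˣ) : F) • 1) with hD'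
  have h1 : D * Matrix.J (Fin n) F * Dᵀ = (ν : F) • Matrix.J (Fin n) F := by
    simp [hD, Matrix.J, Matrix.fromBlocks_multiply, Matrix.fromBlocks_transpose, Matrix.fromBlocks_smul]
  have h2 : D' * Matrix.J (Fin n) F * D'ᵀ = ((ν⁻¹ : Fˣ) : F) • Matrix.J (Fin n) F := by
    simp [hD', Matrix.J, Matrix.fromBlocks_multiply, Matrix.fromBlocks_transpose, Matrix.fromBlocks_smul]
  calc D' * X * D * Matrix.J (Fin n) F * (D' * X * D)ᵀ
      = D' * X * (D * Matrix.J (Fin n) F * Dᵀ) * Xᵀ * D'ᵀ := by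
        simp only [Matrix.transpose_mul, mul_assoc]
    _ = (ν : F) • (D' * (X * Matrix.J (Fin n) F * Xᵀ) * D'ᵀ) := by
        rw [h1]; simp only [mul_smul_comm, smul_mul_assoc, mul_assoc]
    _ = _ := by rw [hX, h2, smul_smul, Units.mul_inv, one_smul]

/-- Conjugation by the similitude `diag(1, ν)`. -/
noncomputable def twist (ν : Fˣ) :
    Matrix.symplecticGroup (Fin n) F ≃* Matrix.symplecticGroup (Fin n) F where
  toFun X := ⟨_, twist_mem ν X.2⟩
  invFun X := ⟨_, twist_mem ν⁻¹ X.2⟩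
  left_inv X := Subtype.ext (by
    simp only [inv_inv, ← mul_assoc, Matrix.fromBlocks_multiply]
    simp only [one_mul, mul_zero, zero_mul, add_zero, zero_add, smul_mul_assoc, mul_one, smul_smul,
      Units.mul_inv, one_smul, Matrix.fromBlocks_one]
    rw [mul_assoc, Matrix.fromBlocks_multiply]
    simp [smul_smul, Matrix.fromBlocks_one])
  right_inv X := Subtype.ext (by
    simp only [inv_inv, ← mul_assoc, Matrix.fromBlocks_multiply]
    simp only [one_mul, mul_zero, zero_mul, add_zero, zero_add, smul_mul_assoc, mul_one, smul_smul,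
      Units.inv_mul, one_smul, Matrix.fromBlocks_one]
    rw [mul_assoc, Matrix.fromBlocks_multiply]
    simp [smul_smul, Matrix.fromBlocks_one])
  map_mul' X Y := Subtype.ext (by
    have h : (Matrix.fromBlocks (1 : Matrix (Fin n) (Fin n) F) 0 0 ((ν : F) • (1 : Matrix (Fin n) (Fin n) F))) *
        Matrix.fromBlocks 1 0 0 (((ν⁻¹ : Fˣ) : F) • 1) = 1 := by
      simp [Matrix.fromBlocks_multiply, smul_smul, Matrix.fromBlocks_one]
    simp only [Submonoid.coe_mul]
    set D : Matrix (Fin n ⊕ Fin n) (Fin n ⊕ Fin n) F := Matrix.fromBlocks 1 0 0 ((ν : F) • 1)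
    set D' : Matrix (Fin n ⊕ Fin n) (Fin n ⊕ Fin n) F := Matrix.fromBlocks 1 0 0 (((ν⁻¹ : Fˣ) : F) • 1)
    calc D' * (X.1 * Y.1) * D = D' * X.1 * (1 * Y.1) * D := by simp only [mul_assoc, one_mul]
      _ = _ := by rw [← h]; simp only [mul_assoc])

omit [Fintype F] in
theorem twist_siegelU (ν : Fˣ) (S : symMat n F) : twist ν (siegelU S) = siegelU ((ν : F) • S) := by
  refine Subtype.ext ?_
  show Matrix.fromBlocks 1 0 0 (((ν⁻¹ : Fˣ) : F) • 1) * (siegelU S : Matrix (Fin n ⊕ Fin n) (Fin n ⊕ Fin n) F) *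
    Matrix.fromBlocks 1 0 0 ((ν : F) • 1) = _
  rw [coe_siegelU', coe_siegelU', Matrix.fromBlocks_multiply, Matrix.fromBlocks_multiply]
  simp [smul_smul]

variable {ψ : AddChar F ℂ} {V : Type*} [AddCommGroup V] [Module ℂ V]

omit [Fintype F] in
theorem hasClass_twist (ρ : Representation ℂ (Matrix.symplecticGroup (Fin n) F) V) (ν : Fˣ) {i : Fin n} {c : F}
    (h : HasClass ρ ψ i c) : HasClass (ρ.comp (twist ν).toMonoidHom) ψ i (c * ν) := by
  obtain ⟨m, hm, hm0⟩ := h
  refine ⟨m, fun S => ?_, hm0⟩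
  show ρ (twist ν (siegelU S)) m = _
  rw [twist_siegelU, hm, wt_apply, wt_apply]
  congr 2
  rw [Submodule.coe_smul, Matrix.smul_mulVec, dotProduct_smul, smul_eq_mul, mul_assoc]

omit [Fintype F] in
theorem irreducible_comp (ρ : Representation ℂ (Matrix.symplecticGroup (Fin n) F) V) [hρ : ρ.IsIrreducible]
    (θ : Matrix.symplecticGroup (Fin n) F ≃* Matrix.symplecticGroup (Fin n) F) :
    Representation.IsIrreducible (ρ.comp θ.toMonoidHom : Representation ℂ _ V) := by
  have : Nontrivial V := CfsgLib.Characters.nontrivial_of_isIrreducible ρ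
  refine CfsgLib.Characters.isIrreducible_of_forall _ fun U hU => ?_
  by_cases hbot : U = ⊥
  · exact Or.inl hbot
  obtain ⟨x, hx, hx0⟩ := U.ne_bot_iff.mp hbot
  refine Or.inr (eq_top_of_invariant ρ U (fun g y hy => ?_) hx hx0)
  have h : ρ (θ (θ.symm g)) y ∈ U := hU (θ.symm g) y hy
  rwa [θ.apply_symm_apply] at h

/-- The class is visible in the character. -/
theorem hasClass_congr [FiniteDimensional ℂ V] {W : Type*} [AddCommGroup W] [Module ℂ W] [FiniteDimensional ℂ W]
    (ρ : Representation ℂ (Matrix.symplecticGroup (Fin n) F) V)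
    (σ : Representation ℂ (Matrix.symplecticGroup (Fin n) F) W) (h : ρ.character = σ.character)
    {i : Fin n} {c : F} (hc : HasClass ρ ψ i c) : HasClass σ ψ i c := by
  obtain ⟨m, hm, hm0⟩ := hc
  set χ := wt ψ c (Pi.single i (1 : F))
  have hmult : mult (resChar ρ siegelU) χ = mult (resChar σ siegelU) χ := by
    refine Nat.cast_injective (R := ℂ) ?_
    rw [← trace_proj, ← trace_proj]
    simp only [proj, map_smul, map_sum, resChar_apply]
    congr 1
    refine Finset.sum_congr rfl fun S _ => ?_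
    congr 1
    exact congrFun h (siegelU S)
  by_contra hno
  have hz : mult (resChar σ siegelU) χ = 0 := by
    rw [mult, Submodule.finrank_eq_zero, eq_bot_iff]
    rintro _ ⟨x, rfl⟩
    by_contra hne
    exact hno ⟨_, wproj_mem σ χ x, fun h0 => hne (by
      rw [Submodule.mem_bot]; exact h0)⟩
  rw [hz, mult, Submodule.finrank_eq_zero] at hmult
  refine hm0 ?_
  have h1 : m ∈ LinearMap.range (proj (resChar ρ siegelU) χ) := ⟨m, wproj_of_mem ρ hm⟩
  rwa [hmult, Submodule.mem_bot] at h1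

/-- The odd order case: `2 ≠ 0`. -/
theorem two_ne_zero_of_odd (hodd : Odd (Fintype.card F)) : (2 : F) ≠ 0 :=
  Ring.two_ne_zero fun h => by
    rw [FiniteField.even_card_iff_char_two] at h
    rw [Nat.odd_iff, h] at hodd
    exact absurd hodd (by omega)

/-- Both degrees occur. -/
theorem exists_both (hn : 2 ≤ n) (hodd : Odd (Fintype.card F)) :
    (∃ ρ : Representation ℂ (Matrix.symplecticGroup (Fin n) F) (Fin ((Fintype.card F ^ n - 1) / 2) → ℂ),
      ρ.IsIrreducible) ∧
    ∃ ρ : Representation ℂ (Matrix.symplecticGroup (Fin n) F) (Fin ((Fintype.card F ^ n - 1) / 2 + 1) → ℂ),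
      ρ.IsIrreducible := by
  classical
  obtain ⟨p, hp⟩ := CharP.exists F
  have hpp : p.Prime := (CharP.char_is_prime_or_zero F p).resolve_right (CharP.char_ne_zero_of_finite F p)
  have : Fact p.Prime := ⟨hpp⟩
  let _ : Algebra (ZMod p) F := ZMod.algebra F p
  have h2 : (2 : F) ≠ 0 := two_ne_zero_of_odd hodd
  let ω : (Fin n ⊕ Fin n → F) → (Fin n ⊕ Fin n → F) → F := Cfsg.sympForm n F
  let T := Algebra.trace (ZMod p) F
  let B : (Fin n ⊕ Fin n → F) →ₗ[ZMod p] (Fin n ⊕ Fin n → F) →ₗ[ZMod p] ZMod p :=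
    LinearMap.mk₂ (ZMod p) (fun x z => T (2⁻¹ * ω x z))
      (fun x x' z => by simp only [ω, ← sympBilin_apply, map_add, LinearMap.add_apply, mul_add])
      (fun c x z => by
        simp only [ω, ← sympBilin_apply, ← algebraMap_smul F c x, map_smul, LinearMap.smul_apply, smul_eq_mul]
        rw [mul_left_comm, ← Algebra.smul_def, map_smul, smul_eq_mul])
      (fun x z z' => by simp only [ω, ← sympBilin_apply, map_add, mul_add])
      (fun c x z => by
        simp only [ω, ← sympBilin_apply, ← algebraMap_smul F c z, map_smul, smul_eq_mul]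
        rw [mul_left_comm, ← Algebra.smul_def, map_smul, smul_eq_mul])
  have hBv : ∀ x z, B x z = T (2⁻¹ * ω x z) := fun _ _ => rfl
  let act : Matrix.symplecticGroup (Fin n) F → (Fin n ⊕ Fin n → F) ≃+ (Fin n ⊕ Fin n → F) := fun g =>
    { toFun := fun x => g.1 *ᵥ x
      invFun := fun x => (g⁻¹).1 *ᵥ x
      left_inv := fun x => by
        simp only [Matrix.mulVec_mulVec, ← Submonoid.coe_mul, inv_mul_cancel, Submonoid.coe_one, Matrix.one_mulVec]
      right_inv := fun x => by
        simp only [Matrix.mulVec_mulVec, ← Submonoid.coe_mul, mul_inv_cancel, Submonoid.coe_one, Matrix.one_mulVec]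
      map_add' := fun x z => Matrix.mulVec_add _ _ _ }
  set q := Fintype.card F with hq
  have hqn : Odd (q ^ n) := hodd.pow
  have hq2 : 2 ≤ q := Fintype.one_lt_card
  have h4 : 4 ≤ q ^ n := le_trans (by nlinarith : 4 ≤ q ^ 2) (Nat.pow_le_pow_right (by omega) hn)
  exact exists_halves B
    (fun x hx => by
      refine sympForm_sep x fun v => ?_
      by_contra hne
      obtain ⟨y, hy⟩ : ∃ y, T y ≠ 0 := by
        by_contra h
        push Not at h
        exact Algebra.trace_ne_zero (ZMod p) F (LinearMap.ext h)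
      have h := hx ((y / Cfsg.sympForm n F x v) • v)
      rw [hBv, hBv] at h
      simp only [ω, sympForm_smul_right, sympForm_smul_left] at h
      rw [sympForm_swap v x, ← sub_eq_zero, ← map_sub] at h
      have hne' : Cfsg.sympForm n F v x ≠ 0 := fun h0 => hne (by rw [sympForm_swap, h0, neg_zero])
      apply hy
      rw [← h]
      congr 1
      field_simp
      ring)
    (fun x => by rw [hBv]; simp only [ω, sympForm_self, mul_zero, map_zero])
    act
    (fun g x z => by
      rw [hBv, hBv]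
      show T (2⁻¹ * Cfsg.sympForm n F (g.1 *ᵥ x) (g.1 *ᵥ z)) = _
      rw [sympForm_map])
    (fun x => Matrix.one_mulVec x)
    (fun g h x => by show (g * h).1 *ᵥ x = g.1 *ᵥ (h.1 *ᵥ x); rw [Matrix.mulVec_mulVec]; rfl)
    (fun x z hx hz => CfsgLib.Forms4.exists_mulVec_eq hx hz)
    (d := q ^ n) (b := (q ^ n - 1) / 2)
    (by rw [Fintype.card_fun, Fintype.card_sum, Fintype.card_fin, ← hq, ← pow_mul, mul_two])
    (by rw [Nat.odd_iff] at hqn; omega) (by omega)

/-- The small degrees are below the bound. -/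
theorem small_lt (hn : 2 ≤ n) (hodd : Odd (Fintype.card F)) {r : ℕ}
    (hr : r ≤ (Fintype.card F ^ n - 1) / 2 + 1) :
    r * (2 * (Fintype.card F + 1)) <
      (Fintype.card F ^ n - 1) * (Fintype.card F ^ n - Fintype.card F) := by
  set q := Fintype.card F with hq
  have hq3 : 3 ≤ q := by
    have := Fintype.one_lt_card (α := F)
    rw [Nat.odd_iff] at hodd
    omega
  have hQ : q ^ 2 ≤ q ^ n := Nat.pow_le_pow_right (by omega) hn
  set Q := q ^ n
  have hQq : q ≤ Q := by nlinarith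
  have h1 : 2 * r ≤ Q + 1 := by omega
  have h2 : 2 * q ≤ Q - q := by
    have : 3 * q ≤ Q := by nlinarith
    omega
  have hQ9 : 9 ≤ Q := by nlinarith
  have h3 : (Q + 1) * (q + 1) < (Q - 1) * (2 * q) := by
    obtain ⟨R, hR⟩ : ∃ R, Q = R + 1 := ⟨Q - 1, by omega⟩
    rw [hR, Nat.add_sub_cancel]
    nlinarith
  calc r * (2 * (q + 1)) = 2 * r * (q + 1) := by ring
    _ ≤ (Q + 1) * (q + 1) := Nat.mul_le_mul_right _ h1
    _ < (Q - 1) * (2 * q) := h3
    _ ≤ _ := Nat.mul_le_mul_left _ h2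

/-- Classes modulo squares. -/
theorem exists_sq_or (hodd : Odd (Fintype.card F)) {ν : F} (hν : ¬ IsSquare ν) {c : F} (hc : c ≠ 0) :
    (∃ r : F, r ≠ 0 ∧ c = r ^ 2) ∨ ∃ r : F, r ≠ 0 ∧ c = ν * r ^ 2 := by
  classical
  have hν0 : ν ≠ 0 := fun h => hν (h ▸ IsSquare.zero)
  have key : ∀ d : F, d ≠ 0 → IsSquare d → ∃ r : F, r ≠ 0 ∧ d = r ^ 2 := fun d hd ⟨r, hr⟩ =>
    ⟨r, fun h => hd (by rw [hr, h, mul_zero]), hr.trans (sq r).symm⟩
  by_cases hs : IsSquare c
  · exact Or.inl (key c hc hs)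
  refine Or.inr ?_
  have hsq : IsSquare (c / ν) := by
    rw [← quadraticChar_one_iff_isSquare (div_ne_zero hc hν0), div_eq_mul_inv, map_mul]
    have h1 : quadraticChar F c = -1 := quadraticChar_neg_one_iff_not_isSquare.mpr hs
    have h2 : quadraticChar F ν⁻¹ = -1 := quadraticChar_neg_one_iff_not_isSquare.mpr (by rwa [isSquare_inv])
    rw [h1, h2]; norm_num
  obtain ⟨r, hr, hrc⟩ := key _ (div_ne_zero hc hν0) hsq
  exact ⟨r, hr, by rw [← hrc, mul_div_cancel₀ _ hν0]⟩

end CfsgLib.WeilRankOne
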