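import Cfsg.Agent.WeilRankOne.Space

/-!
# The block of two coordinates

For `m` of weight `(e_i, c)` the span `B` of its translates by `1 + y E_ij` carries an operator which fixes `m`,
has image `B`, and commutes with the reflection `w_j`.  Hence `B` is invariant under `w_j`, and the torus of the
`j`-th pair acts by a scalar on the weight space.
-/

set_option autoImplicit false

namespace CfsgLib.WeilRankOne

open Matrix CfsgLib.RepBounds Module

variable {n : ℕ} {F : Type*} [Field F] [Fintype F] {ψ : AddChar F ℂ}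
variable {V : Type*} [AddCommGroup V] [Module ℂ V] [FiniteDimensional ℂ V]
variable {ρ : Representation ℂ (Matrix.symplecticGroup (Fin n) F) V}

omit [Fintype F] [FiniteDimensional ℂ V] in
theorem rho_mul_apply (g h : Matrix.symplecticGroup (Fin n) F) (x : V) : ρ (g * h) x = ρ g (ρ h x) := by
  rw [map_mul]; rfl

omit [Fintype F] [FiniteDimensional ℂ V] in
theorem rho_inv_apply (g : Matrix.symplecticGroup (Fin n) F) (x : V) : ρ g⁻¹ (ρ g x) = x := by
  rw [← rho_mul_apply, inv_mul_cancel, map_one]; rfl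

omit [Fintype F] in
theorem trEl_neg (i j : Fin n) (hij : i ≠ j) (y : F) : (trEl i j hij y)⁻¹ = trEl i j hij (-y) :=
  inv_eq_of_mul_eq_one_right (by rw [← trEl_add, add_neg_cancel, trEl_zero])

omit [Fintype F] [FiniteDimensional ℂ V] in
/-- The weight of a translate. -/
theorem trEl_mem_wt {i j : Fin n} (hij : i ≠ j) {c : F} {m : V} (hm : m ∈ wsp ρ (wt ψ c (Pi.single i 1))) (y : F) :
    ρ (leviHom (trEl i j hij y)) m ∈ wsp ρ (wt ψ c (Pi.single i 1 + (-y) • Pi.single j 1)) := by
  have h := leviHom_mem_wt (ψ := ψ) ρ (trEl i j hij y) hm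
  rwa [coe_trEl_inv, Matrix.transpose_add, Matrix.transpose_one, Matrix.transpose_single, Matrix.add_mulVec,
    Matrix.one_mulVec, Matrix.single_mulVec, Pi.single_eq_same, mul_one,
    show Function.update (0 : Fin n → F) j (-y) = (-y) • Pi.single j 1 from by
      funext k; rcases eq_or_ne k j with rfl | hk <;> simp_all] at h

omit [FiniteDimensional ℂ V] in
theorem pair_eq (hψ : AddChar.IsPrimitive ψ) (h2 : (2 : F) ≠ 0) {i j : Fin n} (hij : i ≠ j) {c : F} (hc : c ≠ 0)
    {y y' : F} (h : wt ψ c (Pi.single i 1 + y • Pi.single j 1) = wt ψ c (Pi.single i 1 + y' • Pi.single j 1)) :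
    y = y' := by
  have := wt_entry hψ h2 h i j
  simpa [hij, hij.symm, hc] using this

/-- The span of the translates. -/
noncomputable def bspan (ρ : Representation ℂ (Matrix.symplecticGroup (Fin n) F) V) (i j : Fin n) (hij : i ≠ j)
    (m : V) : Submodule ℂ V :=
  Submodule.span ℂ (Set.range fun y : F => ρ (leviHom (trEl i j hij y)) m)

variable (hψ : AddChar.IsPrimitive ψ) (h2 : (2 : F) ≠ 0) (hR : RankOne ρ ψ)
include hψ h2 hR

/-- The block operator. -/
theorem exists_block_op {i j : Fin n} (hij : i ≠ j) {c : F} (hc : c ≠ 0) {m : V}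
    (hm : m ∈ wsp ρ (wt ψ c (Pi.single i 1))) (hm0 : m ≠ 0) :
    ∃ T : End ℂ V, T m = m ∧ (∀ x, T x ∈ bspan ρ i j hij m) ∧
      (∀ y, T * ρ (leviHom (trEl i j hij y)) = ρ (leviHom (trEl i j hij y)) * T) ∧
      (T * ρ (wEl j) = ρ (wEl j) * T) ∧
      ∀ t, T * ρ (leviHom (dgEl j t)) = ρ (leviHom (dgEl j t)) * T := by
  classical
  set χ0 := wt ψ c (Pi.single i (1 : F)) with hχ0
  obtain ⟨φ, hφ⟩ := Module.Projective.exists_dual_ne_zero ℂ hm0
  let φ1 : V →ₗ[ℂ] ℂ := (φ m)⁻¹ • φ
  have hφ1 : φ1 m = 1 := by simp [φ1, hφ]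
  let E : F → End ℂ V := fun y => ρ (leviHom (trEl i j hij y))
  let T : End ℂ V :=
    ∑ y, LinearMap.smulRight ((φ1.comp (wproj ρ χ0)).comp (E (-y))) (E y m)
  have hT : ∀ x, T x = ∑ y, φ1 (wproj ρ χ0 (E (-y) x)) • E y m := fun x => by
    simp [T, LinearMap.sum_apply]
  have hEadd : ∀ y z x, E y (E z x) = E (y + z) x := fun y z x => by
    simp only [E, trEl_add, map_mul, Module.End.mul_apply]
  have hTm : T m = m := by
    rw [hT, Finset.sum_eq_single (0 : F)]
    · simp only [E, neg_zero, trEl_zero, map_one, Module.End.one_apply]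
      rw [wproj_of_mem ρ hm, hφ1, one_smul]
    · intro y _ hy
      rw [wproj_of_mem_ne ρ (trEl_mem_wt hij hm (-y)) (χ' := χ0), map_zero, zero_smul]
      intro h
      refine hy (pair_eq hψ h2 hij hc (y := y) (y' := 0) ?_)
      rw [zero_smul, add_zero]
      simpa using h
    · simp
  have hTr : ∀ x, T x ∈ bspan ρ i j hij m := fun x => by
    rw [hT]
    exact Submodule.sum_mem _ fun y _ => Submodule.smul_mem _ _ (Submodule.subset_span ⟨y, rfl⟩)
  have hTE : ∀ z, T * E z = E z * T := fun z => LinearMap.ext fun x => by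
    rw [Module.End.mul_apply, Module.End.mul_apply, hT, hT, map_sum]
    refine Fintype.sum_equiv (Equiv.addRight (-z)) _ _ fun y => ?_
    rw [map_smul, Equiv.coe_addRight, hEadd, hEadd]
    rw [show z + (y + -z) = y by ring, show -(y + -z) = -y + z by ring]
  have hTU : ∀ S x, T (ρ (siegelU S) x) = ρ (siegelU S) (T x) := fun S x => by
    rw [hT, hT, map_sum]
    refine Finset.sum_congr rfl fun y _ => ?_
    rw [map_smul]
    have e1 : E (-y) (ρ (siegelU S) x) = ρ (siegelU (congrSym (trEl i j hij (-y)) S)) (E (-y) x) := by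
      simp only [E, ← rho_mul_apply, leviHom_siegelU]
    have e2 : ρ (siegelU S) (E y m) = χ0 (congrSym (trEl i j hij (-y)) S) • E y m := by
      simp only [E, ← rho_mul_apply, siegelU_leviHom, trEl_neg]
      rw [rho_mul_apply, hm, map_smul]
    rw [e1, e2, ← Module.End.mul_apply (wproj ρ χ0), wproj_comm, Module.End.mul_apply,
      wproj_mem ρ χ0 (E (-y) x) _, map_smul, smul_smul, smul_eq_mul, mul_comm]
  have hBlk : ∀ x, Blk ρ ψ i j c (T x) := by
    intro x S hS
    have h := hTr x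
    generalize T x = z at h ⊢
    induction h using Submodule.span_induction with
    | mem v hv =>
      obtain ⟨y, rfl⟩ := hv
      rw [(trEl_mem_wt hij hm y) S, wt_apply]
      congr 3
      have hS2 : ∀ k, S.1 k j = 0 := fun k => by
        rw [← Matrix.transpose_apply S.1, show S.1ᵀ = S.1 from S.2]; exact hS k
      simp [Matrix.mulVec_add, Matrix.mulVec_smul, Matrix.mulVec_neg, add_dotProduct, dotProduct_add, smul_dotProduct,
        dotProduct_smul, hS, hS2]
    | zero => simp
    | add v w _ _ hv hw => rw [map_add, hv, hw, smul_add]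
    | smul a v _ hv => rw [map_smul, hv, smul_comm]
  set w := wEl (F := F) j with hw
  let T' : End ℂ V := ρ w⁻¹ * T * ρ w
  have hT' : ∀ x, T' x = ρ w⁻¹ (T (ρ w x)) := fun _ => rfl
  have hwS : ∀ S : symMat n F, (∀ k, S.1 j k = 0) → w⁻¹ * siegelU S = siegelU S * w⁻¹ := fun S hS =>
    (Commute.inv_left (wEl_comm_siegelU j S hS)).eq
  have hT'Blk : ∀ x, Blk ρ ψ i j c (T' x) := fun x S hS => by
    rw [hT', ← rho_mul_apply, ← hwS S hS, rho_mul_apply, hBlk _ S hS, map_smul]
  have hT'row : ∀ S : symMat n F, (∀ k, S.1 j k = 0) → ∀ x, T' (ρ (siegelU S) x) = ρ (siegelU S) (T' x) := by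
    intro S hS x
    rw [hT', hT', ← rho_mul_apply w, wEl_comm_siegelU j S hS, rho_mul_apply, hTU, ← rho_mul_apply, hwS S hS,
      rho_mul_apply]
  have hT'off : ∀ z x, T' (ρ (siegelU (offSym i j z)) x) = ρ (siegelU (offSym i j z)) (T' x) := by
    intro z x
    rw [hT', hT', ← rho_mul_apply w, wEl_mul_offSym i j hij, rho_mul_apply,
      ← Module.End.mul_apply T, hTE z, Module.End.mul_apply]
    simp only [E, ← rho_mul_apply]
    congr 1
    have h := wEl_mul_offSym (F := F) i j hij z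
    have h' : w⁻¹ * leviHom (trEl i j hij z) = siegelU (offSym i j z) * w⁻¹ := by
      calc w⁻¹ * leviHom (trEl i j hij z) = w⁻¹ * (leviHom (trEl i j hij z) * w) * w⁻¹ := by group
        _ = _ := by rw [← h, inv_mul_cancel_left]
    rw [← h']
  have hpres : ∀ χ, ∀ x ∈ wsp ρ χ, T' x ∈ wsp ρ χ := by
    intro χ x hx
    by_cases hz : T' x = 0
    · rw [hz]; exact Submodule.zero_mem _
    have hx0 : x ≠ 0 := fun h => hz (by rw [h, map_zero])
    have hxv : Blk ρ ψ i j c x := fun S hS => by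
      rw [hx S]
      congr 1
      refine smul_left_injective ℂ hz ?_
      show χ S • T' x = ψ (c * S.1 i i) • T' x
      rw [← hT'Blk x S hS, ← hT'row S hS, hx S, map_smul]
    obtain ⟨y, rfl⟩ := blk_shape hψ hR hij hc hx hx0 hxv
    refine mem_of_wproj ρ _ fun χ' => ?_
    by_cases h0 : wproj ρ χ' (T' x) = 0
    · rw [h0]; exact Submodule.zero_mem _
    have hb' : Blk ρ ψ i j c (wproj ρ χ' (T' x)) := fun S hS => by
      rw [← Module.End.mul_apply, ← wproj_comm, Module.End.mul_apply, hT'Blk x S hS, map_smul]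
    obtain ⟨y', rfl⟩ := blk_shape hψ hR hij hc (wproj_mem ρ χ' _) h0 hb'
    have : y' = y := by
      refine mul_left_cancel₀ (mul_ne_zero h2 hc) (coef_eq_of_forall hψ fun z => ?_)
      have h1 : ∀ u : F, z * (2 * c * u) =
          c * ((Pi.single i 1 + u • Pi.single j 1) ⬝ᵥ (offSym i j z).1 *ᵥ (Pi.single i 1 + u • Pi.single j 1)) := by
        intro u
        rw [offSym_value]
        simp [hij, hij.symm, mul_assoc, mul_comm, mul_left_comm]
      rw [h1, h1, ← wt_apply, ← wt_apply]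
      by_contra hne
      refine h0 (wproj_eq_zero ρ ?_ hne)
      rw [← hT'off, hx, map_smul]
    subst this
    exact wproj_mem ρ _ _
  have hT'U : ∀ S x, T' (ρ (siegelU S) x) = ρ (siegelU S) (T' x) := by
    intro S x
    conv_lhs => rw [← sum_wproj ρ x]
    conv_rhs => rw [← sum_wproj ρ x]
    simp only [map_sum]
    refine Finset.sum_congr rfl fun χ _ => ?_
    rw [wproj_mem ρ χ x S, map_smul, hpres χ _ (wproj_mem ρ χ x) S]
  have hTL : ∀ s x, T (ρ (lowerU (dSym j s)) x) = ρ (lowerU (dSym j s)) (T x) := by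
    intro s x
    have e : lowerU (dSym j s) = w * siegelU (dSym j (-s)) * w⁻¹ := by
      rw [hw, wEl_mul_dSym, neg_neg, mul_inv_cancel_right]
    have e' : ∀ y, T (ρ w y) = ρ w (T' y) := fun y => by
      rw [hT', ← rho_mul_apply, mul_inv_cancel, map_one]; rfl
    rw [e, rho_mul_apply, rho_mul_apply, e', hT'U, rho_mul_apply, rho_mul_apply]
    congr 2
    rw [hT', ← rho_mul_apply w w⁻¹, mul_inv_cancel, map_one]
    rfl
  have hTw : ∀ x, T (ρ w x) = ρ w (T x) := fun x => by
    rw [hw, wEl, rho_mul_apply, rho_mul_apply, hTU, hTL, hTU, rho_mul_apply, rho_mul_apply]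
  refine ⟨T, hTm, hTr, hTE, LinearMap.ext hTw, fun t => LinearMap.ext fun x => ?_⟩
  have e : leviHom (dgEl j t) =
      siegelU (dSym j (t : F)) * lowerU (dSym j (-((t⁻¹ : Fˣ) : F))) * siegelU (dSym j (t : F)) * w⁻¹ := by
    rw [← dgEl_mul_wEl, hw, mul_inv_cancel_right]
  have hTwi : T (ρ w⁻¹ x) = ρ w⁻¹ (T x) := by
    conv_rhs => rw [show x = ρ w (ρ w⁻¹ x) by rw [← rho_mul_apply, mul_inv_cancel, map_one]; rfl]
    rw [hTw, rho_inv_apply]
  simp only [Module.End.mul_apply]
  rw [e, rho_mul_apply, rho_mul_apply, rho_mul_apply, hTU, hTL, hTU, hTwi, rho_mul_apply, rho_mul_apply,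
    rho_mul_apply]

/-- A vector of the block of weight `(e_i, c)` is a multiple of `m`. -/
theorem bspan_inter {i j : Fin n} (hij : i ≠ j) {c : F} (hc : c ≠ 0) {m : V}
    (hm : m ∈ wsp ρ (wt ψ c (Pi.single i 1))) {x : V} (hx : x ∈ bspan ρ i j hij m)
    (hx' : x ∈ wsp ρ (wt ψ c (Pi.single i 1))) : x ∈ ℂ ∙ m := by
  have : ∀ z ∈ bspan ρ i j hij m, wproj ρ (wt ψ c (Pi.single i 1)) z ∈ ℂ ∙ m := by
    intro z hz
    induction hz using Submodule.span_induction with
    | mem v hv =>
      obtain ⟨y, rfl⟩ := hv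
      rcases eq_or_ne y 0 with rfl | hy
      · simp only [trEl_zero, map_one, Module.End.one_apply]
        rw [wproj_of_mem ρ hm]
        exact Submodule.mem_span_singleton_self m
      · rw [wproj_of_mem_ne ρ (trEl_mem_wt hij hm y)]
        · exact Submodule.zero_mem _
        · intro h
          refine hy (neg_eq_zero.mp (pair_eq hψ h2 hij hc (y := -y) (y' := 0) ?_))
          rwa [zero_smul, add_zero]
    | zero => rw [map_zero]; exact Submodule.zero_mem _
    | add v w _ _ hv hw => rw [map_add]; exact Submodule.add_mem _ hv hw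
    | smul a v _ hv => rw [map_smul]; exact Submodule.smul_mem _ _ hv
  have h := this x hx
  rwa [wproj_of_mem ρ hx'] at h

/-- The block is invariant under `w_j`. -/
theorem wEl_bspan {i j : Fin n} (hij : i ≠ j) {c : F} (hc : c ≠ 0) {m : V}
    (hm : m ∈ wsp ρ (wt ψ c (Pi.single i 1))) {x : V} (hx : x ∈ bspan ρ i j hij m) :
    ρ (wEl j) x ∈ bspan ρ i j hij m := by
  by_cases hm0 : m = 0
  · have hb : bspan ρ i j hij m = ⊥ := by
      rw [eq_bot_iff, bspan, Submodule.span_le]
      rintro _ ⟨y, rfl⟩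
      simp [hm0]
    rw [hb, Submodule.mem_bot] at hx ⊢
    rw [hx, map_zero]
  obtain ⟨T, hTm, hTr, hTE, hTw, -⟩ := exists_block_op hψ h2 hR hij hc hm hm0
  induction hx using Submodule.span_induction with
  | mem v hv =>
    obtain ⟨y, rfl⟩ := hv
    show ρ (wEl j) (ρ (leviHom (trEl i j hij y)) m) ∈ _
    have h1 : T (ρ (leviHom (trEl i j hij y)) m) = ρ (leviHom (trEl i j hij y)) m := by
      rw [← Module.End.mul_apply, hTE, Module.End.mul_apply, hTm]
    rw [← h1, ← Module.End.mul_apply, ← hTw, Module.End.mul_apply]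
    exact hTr _
  | zero => rw [map_zero]; exact Submodule.zero_mem _
  | add v w _ _ hv hw => rw [map_add]; exact Submodule.add_mem _ hv hw
  | smul a v _ hv => rw [map_smul]; exact Submodule.smul_mem _ _ hv

/-- `m` is reached from the other translates and their images under `w_j`. -/
theorem mem_span_translates {i j : Fin n} (hij : i ≠ j) {c : F} (hc : c ≠ 0) {m : V}
    (hm : m ∈ wsp ρ (wt ψ c (Pi.single i 1))) :
    m ∈ Submodule.span ℂ {v | ∃ y : F, y ≠ 0 ∧
      (v = ρ (leviHom (trEl i j hij y)) m ∨ v = ρ (wEl j) (ρ (leviHom (trEl i j hij y)) m))} := by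
  set Z := Submodule.span ℂ {v | ∃ y : F, y ≠ 0 ∧
      (v = ρ (leviHom (trEl i j hij y)) m ∨ v = ρ (wEl j) (ρ (leviHom (trEl i j hij y)) m))} with hZ
  set Z0 := Submodule.span ℂ {v | ∃ y : F, y ≠ 0 ∧ v = ρ (leviHom (trEl i j hij y)) m} with hZ0
  have hle : Z0 ≤ Z := Submodule.span_mono fun v ⟨y, hy, hv⟩ => ⟨y, hy, Or.inl hv⟩
  have hB : bspan ρ i j hij m ≤ (ℂ ∙ m) ⊔ Z0 := by
    rw [bspan, Submodule.span_le]
    rintro _ ⟨y, rfl⟩
    rcases eq_or_ne y 0 with rfl | hy
    · simp only [trEl_zero, map_one, Module.End.one_apply]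
      exact Submodule.mem_sup_left (Submodule.mem_span_singleton_self m)
    · exact Submodule.mem_sup_right (Submodule.subset_span ⟨y, hy, rfl⟩)
  by_contra hmZ
  have hw0 : ∀ v ∈ Z0, ρ (wEl j) v ∈ Z0 := by
    intro v hv
    induction hv using Submodule.span_induction with
    | mem u hu =>
      obtain ⟨y, hy, rfl⟩ := hu
      have h1 := hB (wEl_bspan hψ h2 hR hij hc hm (Submodule.subset_span ⟨y, rfl⟩))
      obtain ⟨a, ha, b, hb, hab⟩ := Submodule.mem_sup.mp h1
      obtain ⟨r, rfl⟩ := Submodule.mem_span_singleton.mp ha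
      rcases eq_or_ne r 0 with rfl | hr
      · rw [zero_smul, zero_add] at hab; rwa [← hab]
      · refine absurd ?_ hmZ
        have hwv : ρ (wEl j) (ρ (leviHom (trEl i j hij y)) m) ∈ Z :=
          Submodule.subset_span ⟨y, hy, Or.inr rfl⟩
        have : r • m ∈ Z := by
          rw [show r • m = ρ (wEl j) (ρ (leviHom (trEl i j hij y)) m) - b from eq_sub_of_add_eq hab]
          exact Submodule.sub_mem _ hwv (hle hb)
        simpa [smul_smul, hr] using Submodule.smul_mem _ r⁻¹ this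
    | zero => rw [map_zero]; exact Submodule.zero_mem _
    | add v w _ _ hv hw => rw [map_add]; exact Submodule.add_mem _ hv hw
    | smul a v _ hv => rw [map_smul]; exact Submodule.smul_mem _ _ hv
  have hU0 : ∀ S, ∀ v ∈ Z0, ρ (siegelU S) v ∈ Z0 := by
    intro S v hv
    induction hv using Submodule.span_induction with
    | mem u hu =>
      obtain ⟨y, hy, rfl⟩ := hu
      rw [trEl_mem_wt hij hm y S]
      exact Submodule.smul_mem _ _ (Submodule.subset_span ⟨y, hy, rfl⟩)
    | zero => rw [map_zero]; exact Submodule.zero_mem _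
    | add v w _ _ hv hw => rw [map_add]; exact Submodule.add_mem _ hv hw
    | smul a v _ hv => rw [map_smul]; exact Submodule.smul_mem _ _ hv
  have hwi : ∀ v ∈ Z0, ρ (wEl (F := F) j)⁻¹ v ∈ Z0 := fun v hv => by
    rw [wEl_inv, ← wEl_mul_self, rho_mul_apply, rho_mul_apply]
    exact hw0 _ (hw0 _ (hw0 _ hv))
  have htr : ∀ v ∈ Z0, ρ (leviHom (trEl i j hij (1 : F))) v ∈ Z0 := fun v hv => by
    rw [show leviHom (trEl i j hij (1 : F)) = wEl j * siegelU (offSym i j 1) * (wEl j)⁻¹ by
      rw [wEl_mul_offSym i j hij, mul_inv_cancel_right], rho_mul_apply, rho_mul_apply]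
    exact hw0 _ (hU0 _ _ (hwi _ hv))
  refine hmZ (hle ?_)
  have h := htr _ (Submodule.subset_span ⟨-1, neg_ne_zero.mpr one_ne_zero, rfl⟩ :
    ρ (leviHom (trEl i j hij (-1 : F))) m ∈ Z0)
  rwa [← rho_mul_apply, ← map_mul, ← trEl_add, add_neg_cancel, trEl_zero, map_one, map_one,
    Module.End.one_apply] at h

/-- The torus of the `j`-th pair acts by a scalar on the weight space of `(e_i, c)`. -/
theorem dgEl_scalar {i j : Fin n} (hij : i ≠ j) {c : F} (hc : c ≠ 0) (t : Fˣ) :
    ∃ μ : ℂ, ∀ m ∈ wsp ρ (wt ψ c (Pi.single i 1)), ρ (leviHom (dgEl j t)) m = μ • m := by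
  set W := wsp ρ (wt ψ c (Pi.single i (1 : F)))
  have hmem : ∀ m ∈ W, ρ (leviHom (dgEl j t)) m ∈ W := fun m hm => by
    have h := leviHom_mem_wt (ψ := ψ) ρ (dgEl j t) hm
    rwa [coe_dgEl_inv, Matrix.transpose_add, Matrix.transpose_one, Matrix.transpose_single, Matrix.add_mulVec,
      Matrix.one_mulVec, Matrix.single_mulVec, Pi.single_eq_of_ne hij.symm, mul_zero,
      show Function.update (0 : Fin n → F) j 0 = 0 from Function.update_eq_self j 0, add_zero] at h
  have hev : ∀ m ∈ W, ∃ r : ℂ, ρ (leviHom (dgEl j t)) m = r • m := by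
    intro m hm
    by_cases hm0 : m = 0
    · exact ⟨0, by simp [hm0]⟩
    obtain ⟨T, hTm, hTr, -, -, hTd⟩ := exists_block_op hψ h2 hR hij hc hm hm0
    have h1 : ρ (leviHom (dgEl j t)) m ∈ bspan ρ i j hij m := by
      rw [← hTm, ← Module.End.mul_apply, ← hTd, Module.End.mul_apply, hTm]
      exact hTr _
    obtain ⟨r, hr⟩ := Submodule.mem_span_singleton.mp (bspan_inter hψ h2 hR hij hc hm h1 (hmem m hm))
    exact ⟨r, hr.symm⟩
  by_cases hW : ∀ m ∈ W, m = 0
  · exact ⟨0, fun m hm => by simp [hW m hm]⟩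
  push Not at hW
  obtain ⟨m0, hm0, hne⟩ := hW
  obtain ⟨μ, hμ⟩ := hev m0 hm0
  refine ⟨μ, fun m hm => ?_⟩
  obtain ⟨r, hr⟩ := hev m hm
  by_cases hind : ∃ a : ℂ, m = a • m0
  · obtain ⟨a, rfl⟩ := hind
    rw [map_smul, hμ, smul_comm]
  · push Not at hind
    obtain ⟨s, hs⟩ := hev (m + m0) (W.add_mem hm hm0)
    rw [map_add, hr, hμ, smul_add] at hs
    rcases eq_or_ne (r - s) 0 with h | h
    · rw [hr]
      congr 1
      have hrs := sub_eq_zero.mp h
      subst hrs
      rw [add_right_inj] at hs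
      exact (smul_left_injective ℂ hne hs).symm
    · refine absurd ?_ (hind ((r - s)⁻¹ * (s - μ)))
      rw [← smul_smul, show (s - μ) • m0 = (r - s) • m by
        rw [sub_smul, sub_smul]; linear_combination (norm := module) -hs, smul_smul, inv_mul_cancel₀ h, one_smul]

/-- Transvections fixing `e_i` act trivially on its weight space. -/
theorem trEl_trivial {i k l : Fin n} (hki : k ≠ i) (hkl : k ≠ l) {c : F} (hc : c ≠ 0) (x : F) {m : V}
    (hm : m ∈ wsp ρ (wt ψ c (Pi.single i 1))) : ρ (leviHom (trEl k l hkl x)) m = m := by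
  obtain ⟨μ, hμ⟩ := dgEl_scalar hψ h2 hR hki.symm hc (Units.mk0 2 h2)
  have hmem : ρ (leviHom (trEl k l hkl x)) m ∈ wsp ρ (wt ψ c (Pi.single i (1 : F))) := by
    have h := leviHom_mem_wt (ψ := ψ) ρ (trEl k l hkl x) hm
    rwa [coe_trEl_inv, Matrix.transpose_add, Matrix.transpose_one, Matrix.transpose_single, Matrix.add_mulVec,
      Matrix.one_mulVec, Matrix.single_mulVec, Pi.single_eq_of_ne hki, mul_zero,
      show Function.update (0 : Fin n → F) l 0 = 0 from Function.update_eq_self l 0, add_zero] at h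
  rcases eq_or_ne m 0 with rfl | hm0
  · simp
  have hμ0 : μ ≠ 0 := fun h => by
    have := hμ m hm
    rw [h, zero_smul] at this
    exact hm0 (by rw [← rho_inv_apply (ρ := ρ) (leviHom (dgEl k (Units.mk0 2 h2))) m, this, map_zero])
  have h1 : ρ (leviHom (trEl k l hkl ((2 : F) * x))) (ρ (leviHom (dgEl k (Units.mk0 2 h2))) m) =
      ρ (leviHom (dgEl k (Units.mk0 2 h2))) (ρ (leviHom (trEl k l hkl x)) m) := by
    rw [← rho_mul_apply, ← rho_mul_apply, ← map_mul, ← map_mul, dgEl_mul_trEl]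
    rfl
  rw [hμ m hm, hμ _ hmem, map_smul, two_mul, trEl_add, map_mul, rho_mul_apply] at h1
  have h3 := smul_right_injective V hμ0 h1
  have h4 := congrArg (ρ (leviHom (trEl k l hkl x))⁻¹) h3
  rwa [rho_inv_apply, rho_inv_apply] at h4

/-- Vectors fixed by the radical outside row `j` are fixed by `1 + y E_ij`. -/
theorem trEl_fix {i j : Fin n} (hij : i ≠ j) {x : V} (hx : Fix ρ j x) (y : F) :
    ρ (leviHom (trEl i j hij y)) x = x := by
  set w := wEl (F := F) j
  have hwi : Fix ρ j (ρ w⁻¹ x) := fun S hS => by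
    rw [← rho_mul_apply, ← (Commute.inv_left (wEl_comm_siegelU j S hS)).eq, rho_mul_apply, hx S hS]
  have hoff : ∀ z, Fix ρ j z → ρ (siegelU (offSym i j y)) z = z := by
    intro z hz
    conv_lhs => rw [← sum_wproj ρ z]
    conv_rhs => rw [← sum_wproj ρ z]
    rw [map_sum]
    refine Finset.sum_congr rfl fun χ _ => ?_
    rw [wproj_mem ρ χ z]
    by_cases h0 : wproj ρ χ z = 0
    · simp [h0]
    have hb : Fix ρ j (wproj ρ χ z) := fun S hS => by
      rw [← Module.End.mul_apply, ← wproj_comm, Module.End.mul_apply, hz S hS]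
    obtain ⟨c, rfl⟩ := fix_shape hψ hR (wproj_mem ρ χ z) h0 hb
    rw [wt_apply, offSym_value, Pi.single_eq_of_ne hij]
    simp
  have h := hoff _ hwi
  have e : leviHom (trEl i j hij y) = w * siegelU (offSym i j y) * w⁻¹ := by
    rw [wEl_mul_offSym i j hij, mul_inv_cancel_right]
  rw [e, rho_mul_apply, rho_mul_apply, h, ← rho_mul_apply, mul_inv_cancel, map_one]
  rfl

end CfsgLib.WeilRankOne
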