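import Cfsg.Agent.RepBounds.FormOrbit

/-!
# The orbit of a quadratic function of rank at least two, odd characteristic

If `f a ≠ 0`, `f b ≠ 0` and `B a b = 0` then there are at least `(q^n - 1)(q^n - q) / (2(q+1))` translates of `f`.
-/

set_option autoImplicit false

namespace CfsgLib.WeilRankOne

open Module CfsgLib.RepBounds

variable {F V : Type*} [Field F] [Fintype F] [AddCommGroup V] [Module F V] [Finite V]
variable (f : V → F) (B : LinearMap.BilinForm F V) (hadd : ∀ x y, f (x + y) = f x + f y + B x y)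
  (hsmul : ∀ (t : F) x, f (t • x) = t ^ 2 * f x)

include hadd hsmul

omit [Fintype F] [Finite V] in
theorem polar_self (x : V) : B x x = 2 * f x := by
  have h := hadd x x
  rw [← two_smul F x, hsmul] at h
  linear_combination -h

omit [Fintype F] [Finite V] in
theorem f_plane {a b : V} (hab : B a b = 0) (s t : F) :
    f (s • a + t • b) = s ^ 2 * f a + t ^ 2 * f b := by
  rw [hadd, hsmul, hsmul]
  simp [map_smul, hab]

/-- Vectors of a given non-zero value, in the presence of an orthogonal anisotropic pair. -/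
theorem card_value_le (h2 : (2 : F) ≠ 0) {a b : V} (ha : f a ≠ 0) (hb : f b ≠ 0) (hab : B a b = 0)
    {c : F} (hc : c ≠ 0) :
    Nat.card {x : V // f x = c} * Fintype.card F ^ 2 ≤ (Fintype.card F + 1) * Nat.card V := by
  classical
  have hFD : FiniteDimensional F V := Module.Finite.of_finite
  set q := Fintype.card F with hq
  have hq2 : 2 ≤ q := Fintype.one_lt_card
  by_cases hP : ∀ s t : F, f (s • a + t • b) = 0 → s = 0 ∧ t = 0
  · have h := card_le_mul_card
      (fun p : {x : V // f x = c} × (F × F) => p.1.1 + (p.2.1 • a + p.2.2 • b)) (q + 1) fun z => by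
      refine le_trans ?_ (card_conic_le f B hadd hsmul hP z c)
      refine Nat.card_le_card_of_injective
        (fun p => ⟨p.1.2, by
          rw [show z - (p.1.2.1 • a + p.1.2.2 • b) = p.1.1.1 from sub_eq_iff_eq_add.mpr p.2.symm]
          exact p.1.1.2⟩) ?_
      rintro ⟨⟨x, t⟩, hx⟩ ⟨⟨y, s⟩, hy⟩ h
      simp only [Subtype.mk.injEq] at h
      subst h
      simp only at hx hy
      have hxy := hx.trans hy.symm
      simp only [add_left_inj] at hxy
      simp [Subtype.ext hxy]
    rwa [Nat.card_prod, Nat.card_prod, Nat.card_eq_fintype_card (α := F), ← pow_two] at h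
  push Not at hP
  obtain ⟨s0, t0, h0, hne⟩ := hP
  rw [f_plane f B hadd hsmul hab] at h0
  have ht0 : t0 ≠ 0 := fun h => by
    subst h
    have hs : s0 = 0 := by
      simpa [ha] using h0
    exact hne hs rfl
  have hs0 : s0 ≠ 0 := fun h => by subst h; simp [hb, ht0] at h0
  set r := s0 / t0 with hr
  have hr0 : r ≠ 0 := div_ne_zero hs0 ht0
  have hfb : f b = -(f a * r ^ 2) := by
    rw [hr]; field_simp; linear_combination h0
  have hba : B b a = 0 := (polar_symm f B hadd hsmul b a).trans hab
  have hBa : B a a ≠ 0 := by rw [polar_self f B hadd hsmul]; exact mul_ne_zero h2 ha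
  have hBb : B b b ≠ 0 := by rw [polar_self f B hadd hsmul]; exact mul_ne_zero h2 hb
  set K := LinearMap.ker ((B a).prod (B b)) with hK
  have hKmem : ∀ z, z ∈ K ↔ B a z = 0 ∧ B b z = 0 := fun z => by
    simp [hK, LinearMap.mem_ker, Prod.ext_iff]
  let co : V → F × F := fun x => (B a x / B a a, B b x / B b b)
  let pr : V → K := fun x => ⟨x - ((co x).1 • a + (co x).2 • b), by
    rw [hKmem]
    constructor <;> simp [co, map_sub, map_add, map_smul, hab, hba, hBa, hBb]⟩
  have hdec : ∀ x, x = (pr x : V) + ((co x).1 • a + (co x).2 • b) := fun x => by simp [pr]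
  have hf : ∀ x, f x = f (pr x : V) + f a * ((co x).1 - r * (co x).2) * ((co x).1 + r * (co x).2) := by
    intro x
    conv_lhs => rw [hdec x]
    have hz := (hKmem _).mp (pr x).2
    rw [hadd, f_plane f B hadd hsmul hab, hfb, map_add, map_smul, map_smul,
      polar_symm f B hadd hsmul (pr x : V) a, polar_symm f B hadd hsmul (pr x : V) b, hz.1, hz.2]
    simp only [smul_eq_mul]
    ring
  let uv : V → F × F := fun x => ((co x).1 - r * (co x).2, (co x).1 + r * (co x).2)
  have huv : ∀ x y, pr x = pr y → uv x = uv y → x = y := by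
    intro x y h1 h2'
    simp only [uv, Prod.mk.injEq] at h2'
    have e1 : (co x).1 = (co y).1 := mul_left_cancel₀ h2 (by linear_combination h2'.1 + h2'.2)
    have e2 : (co x).2 = (co y).2 :=
      mul_left_cancel₀ (mul_ne_zero h2 hr0) (by linear_combination h2'.2 - h2'.1)
    rw [hdec x, hdec y, h1, e1, e2]
  let φ : {x : V // f x = c} → ({u : F // u ≠ 0} × K) ⊕ (F × {z : K // f z = c}) := fun x =>
    if h : (uv x.1).1 = 0 then Sum.inr ((uv x.1).2, ⟨pr x.1, by
      have h' := hf x.1
      simp only [uv] at h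
      rw [x.2, h, mul_zero, zero_mul, add_zero] at h'
      exact h'.symm⟩)
    else Sum.inl (⟨(uv x.1).1, h⟩, pr x.1)
  have hφ : Function.Injective φ := by
    rintro ⟨x, hx⟩ ⟨y, hy⟩ h
    simp only [φ] at h
    refine Subtype.ext ?_
    split_ifs at h with h1 h1' h1'
    · simp only [Sum.inr.injEq, Prod.mk.injEq, Subtype.mk.injEq] at h
      exact huv x y h.2 (Prod.ext (h1.trans h1'.symm) h.1)
    · simp only [Sum.inl.injEq, Prod.mk.injEq, Subtype.mk.injEq] at h
      refine huv x y h.2 (Prod.ext h.1 ?_)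
      have ex := hf x
      have ey := hf y
      rw [hx] at ex
      rw [hy, ← h.2] at ey
      have h3 : f a * (uv x).1 * (uv x).2 = f a * (uv x).1 * (uv y).2 := by
        have := h.1
        simp only [uv] at this ⊢
        rw [← this] at ey
        linear_combination ey - ex
      exact mul_left_cancel₀ (mul_ne_zero ha h1) h3
  have hKcard : Nat.card K * q ^ 2 ≤ Nat.card V := by
    have h := Nat.card_le_card_of_injective
      (fun p : K × (F × F) => (p.1 : V) + (p.2.1 • a + p.2.2 • b)) (by
        rintro ⟨z, s, t⟩ ⟨z', s', t'⟩ h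
        simp only at h
        have e1 := congrArg (B a) h
        have e2 := congrArg (B b) h
        simp only [map_add, map_smul, hab, hba, ((hKmem _).mp z.2).1, ((hKmem _).mp z'.2).1,
          ((hKmem _).mp z.2).2, ((hKmem _).mp z'.2).2, smul_eq_mul, mul_zero, zero_add, add_zero,
          mul_eq_mul_right_iff, hBa, hBb, or_false] at e1 e2
        subst e1 e2
        simp only [add_left_inj] at h
        rw [Subtype.ext h])
    rwa [Nat.card_prod, Nat.card_prod, Nat.card_eq_fintype_card (α := F), ← pow_two] at h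
  have hN : Nat.card {z : K // f z = c} * q ≤ 2 * Nat.card K := by
    by_cases hw : ∃ w : K, f w ≠ 0
    · obtain ⟨w, hw⟩ := hw
      exact card_level_mul (fun z : K => f z) (B.compl₁₂ K.subtype K.subtype)
        (fun x y => by simp [hadd]) (fun t x => by simp [hsmul]) hw c
    · push Not at hw
      have : IsEmpty {z : K // f z = c} := ⟨fun z => hc (z.2.symm.trans (hw z.1))⟩
      simp
  have hu : Nat.card {u : F // u ≠ 0} = q - 1 := by
    rw [Nat.card_eq_fintype_card, Fintype.card_subtype_compl, Fintype.card_subtype_eq]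
  have hle := Nat.card_le_card_of_injective φ hφ
  rw [Nat.card_sum, Nat.card_prod, Nat.card_prod, hu, Nat.card_eq_fintype_card (α := F), ← hq] at hle
  calc Nat.card {x : V // f x = c} * q ^ 2
      ≤ ((q - 1) * Nat.card K + q * Nat.card {z : K // f z = c}) * q ^ 2 := Nat.mul_le_mul_right _ hle
    _ ≤ ((q - 1) * Nat.card K + 2 * Nat.card K) * q ^ 2 :=
        Nat.mul_le_mul_right _ (Nat.add_le_add_left (by rw [mul_comm]; exact hN) _)
    _ = (q + 1) * (Nat.card K * q ^ 2) := by
        rw [← add_mul, show q - 1 + 2 = q + 1 by omega, mul_assoc]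
    _ ≤ _ := Nat.mul_le_mul_left _ hKcard

/-- Vectors of given non-zero value orthogonal to an anisotropic vector. -/
theorem card_perp_value_le (h2 : (2 : F) ≠ 0) {x : V} (hx : f x ≠ 0) {d : F} (hd : d ≠ 0) :
    Nat.card {y : V // B x y = 0 ∧ f y = d} * Fintype.card F ^ 2 ≤ 2 * Nat.card V := by
  classical
  set q := Fintype.card F
  set K := LinearMap.ker (B x) with hK
  have hBx : B x x ≠ 0 := by rw [polar_self f B hadd hsmul]; exact mul_ne_zero h2 hx
  have hKcard : Nat.card K * q ≤ Nat.card V := by
    have h := Nat.card_le_card_of_injective (fun p : K × F => (p.1 : V) + p.2 • x) (by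
      rintro ⟨z, s⟩ ⟨z', s'⟩ h
      simp only at h
      have e1 := congrArg (B x) h
      simp only [map_add, map_smul, LinearMap.mem_ker.mp z.2, LinearMap.mem_ker.mp z'.2, smul_eq_mul,
        zero_add, mul_eq_mul_right_iff, hBx, or_false] at e1
      subst e1
      simp only [add_left_inj] at h
      rw [Subtype.ext h])
    rwa [Nat.card_prod, Nat.card_eq_fintype_card (α := F)] at h
  have hN : Nat.card {z : K // f z = d} * q ≤ 2 * Nat.card K := by
    by_cases hw : ∃ w : K, f w ≠ 0
    · obtain ⟨w, hw⟩ := hw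
      exact card_level_mul (fun z : K => f z) (B.compl₁₂ K.subtype K.subtype)
        (fun u v => by simp [hadd]) (fun t u => by simp [hsmul]) hw d
    · push Not at hw
      have : IsEmpty {z : K // f z = d} := ⟨fun z => hd (z.2.symm.trans (hw z.1))⟩
      simp
  have he : Nat.card {y : V // B x y = 0 ∧ f y = d} = Nat.card {z : K // f z = d} :=
    Nat.card_congr
      { toFun := fun y => ⟨⟨y.1, LinearMap.mem_ker.mpr y.2.1⟩, y.2.2⟩
        invFun := fun z => ⟨z.1.1, LinearMap.mem_ker.mp z.1.2, z.2⟩
        left_inv := fun _ => rfl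
        right_inv := fun _ => rfl }
  calc Nat.card {y : V // B x y = 0 ∧ f y = d} * q ^ 2 = Nat.card {z : K // f z = d} * q * q := by
        rw [he]; ring
    _ ≤ 2 * Nat.card K * q := Nat.mul_le_mul_right _ hN
    _ ≤ _ := by rw [mul_assoc]; exact Nat.mul_le_mul_left _ hKcard

/-- The orbit bound for rank at least two. -/
theorem card_formOrbit_of_orth (h2 : (2 : F) ≠ 0) {a b : V} (ha : f a ≠ 0) (hb : f b ≠ 0) (hab : B a b = 0) :
    (Fintype.card F ^ finrank F V - 1) * (Fintype.card F ^ finrank F V - Fintype.card F) ≤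
      Nat.card (formOrbit (F := F) f) * (2 * (Fintype.card F + 1)) := by
  classical
  have : FiniteDimensional F V := Module.Finite.of_finite
  set q := Fintype.card F with hqdef
  have hq : 2 ≤ q := Fintype.one_lt_card
  have hba : B b a = 0 := (polar_symm f B hadd hsmul b a).trans hab
  have hBa : B a a ≠ 0 := by rw [polar_self f B hadd hsmul]; exact mul_ne_zero h2 ha
  have hBb : B b b ≠ 0 := by rw [polar_self f B hadd hsmul]; exact mul_ne_zero h2 hb
  obtain ⟨n, hn, hK⟩ : ∃ n, finrank F V = n + 2 ∧
      finrank F (LinearMap.ker ((B a).prod (B b))) = n := by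
    have hsur : LinearMap.range ((B a).prod (B b)) = ⊤ := by
      rw [LinearMap.range_eq_top]
      rintro ⟨s, t⟩
      exact ⟨(s / B a a) • a + (t / B b b) • b, by
        simp [map_add, map_smul, smul_eq_mul, hab, hba, hBa, hBb]⟩
    have h := LinearMap.finrank_range_add_finrank_ker ((B a).prod (B b))
    rw [hsur, finrank_top, Module.finrank_prod, Module.finrank_self] at h
    exact ⟨_, by omega, rfl⟩
  have hV : Nat.card V = q ^ (n + 2) := by
    rw [Module.natCard_eq_pow_finrank (K := F), hn, Nat.card_eq_fintype_card]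
  let P := {p : V × V // f p.1 = f a ∧ B p.1 p.2 = 0 ∧ f p.2 = f b}
  let φ : {g : V ≃ₗ[F] V // f ∘ g = f} → P := fun g => ⟨(g.1 a, g.1 b), congrFun g.2 a,
    (stab_preserves f B hadd hsmul g.2 a b).trans hab, congrFun g.2 b⟩
  have h1 := card_stab_le f φ (LinearMap.ker ((B a).prod (B b)))
    (fun g g' h x hx => by
      simp only [LinearMap.mem_ker, LinearMap.prod_apply, Function.prod_apply, Prod.ext_iff, Prod.fst_zero,
        Prod.snd_zero] at hx ⊢
      have ha' : g.1 a = g'.1 a := congrArg (fun p : P => p.1.1) h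
      have hb' : g.1 b = g'.1 b := congrArg (fun p : P => p.1.2) h
      refine ⟨?_, ?_⟩
      · rw [← stab_preserves f B hadd hsmul g'.2, LinearEquiv.apply_symm_apply, ← ha',
          stab_preserves f B hadd hsmul g.2]
        exact hx.1
      · rw [← stab_preserves f B hadd hsmul g'.2, LinearEquiv.apply_symm_apply, ← hb',
          stab_preserves f B hadd hsmul g.2]
        exact hx.2)
    (fun g g' h hx => by
      have ha' : g.1 a = g'.1 a := congrArg (fun p : P => p.1.1) h
      have hb' : g.1 b = g'.1 b := congrArg (fun p : P => p.1.2) h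
      refine Subtype.ext (LinearEquiv.ext fun x => ?_)
      have hk : x - ((B a x / B a a) • a + (B b x / B b b) • b) ∈ LinearMap.ker ((B a).prod (B b)) := by
        simp [map_sub, map_add, map_smul, smul_eq_mul, hab, hba, hBa, hBb]
      have e := hx _ hk
      rw [map_sub, map_sub, map_add, map_add, map_smul, map_smul, map_smul, map_smul, ha', hb',
        sub_left_inj] at e
      exact e)
  have h2' := (card_le_orbit_mul f).trans (Nat.mul_le_mul_left _ h1)
  rw [card_linearEquiv (n + 2) hn, card_linearEquiv n hK, prod_succ, prod_succ] at h2'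
  have hP : Nat.card P * q ^ 4 ≤ 2 * (q + 1) * (q ^ (n + 2)) ^ 2 := by
    let _ : Fintype {x : V // f x = f a} := Fintype.ofFinite _
    let E : P ≃ Σ x : {x : V // f x = f a}, {y : V // B x.1 y = 0 ∧ f y = f b} :=
      { toFun := fun p => ⟨⟨p.1.1, p.2.1⟩, p.1.2, p.2.2⟩
        invFun := fun p => ⟨(p.1.1, p.2.1), p.1.2, p.2.2⟩
        left_inv := fun p => rfl
        right_inv := fun p => rfl }
    have hy : Nat.card P * q ^ 2 ≤ Nat.card {x : V // f x = f a} * (2 * q ^ (n + 2)) := by
      rw [Nat.card_congr E, Nat.card_sigma, Finset.sum_mul, Nat.card_eq_fintype_card (α := {x : V // f x = f a}),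
        ← smul_eq_mul, ← Finset.card_univ, ← Finset.sum_const]
      refine Finset.sum_le_sum fun x _ => ?_
      rw [← hV]
      exact card_perp_value_le f B hadd hsmul h2 (by rw [x.2]; exact ha) hb
    have hx := card_value_le f B hadd hsmul h2 ha hb hab ha
    rw [hV] at hx
    calc Nat.card P * q ^ 4 = Nat.card P * q ^ 2 * q ^ 2 := by ring
      _ ≤ Nat.card {x : V // f x = f a} * (2 * q ^ (n + 2)) * q ^ 2 := Nat.mul_le_mul_right _ hy
      _ = (Nat.card {x : V // f x = f a} * q ^ 2) * (2 * q ^ (n + 2)) := by ring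
      _ ≤ (q + 1) * q ^ (n + 2) * (2 * q ^ (n + 2)) := Nat.mul_le_mul_right _ hx
      _ = _ := by ring
  rw [hn]
  set O := Nat.card (formOrbit (F := F) f)
  set M := ∏ i : Fin n, (q ^ n - q ^ (i : ℕ)) with hM
  have hMpos : 0 < M := card_GL_pos q n hq
  have hsub : q ^ (n + 2) - q = q * (q ^ (n + 1) - 1) := by
    rw [Nat.mul_sub, ← pow_succ', mul_one]
  refine Nat.le_of_mul_le_mul_right ?_
    (Nat.mul_pos hMpos (pow_pos (pow_pos (by omega : 0 < q) (n + 2)) 2))
  calc (q ^ (n + 2) - 1) * (q ^ (n + 2) - q) * (M * (q ^ (n + 2)) ^ 2)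
      = (q ^ (n + 2) - 1) * q ^ (n + 1) * ((q ^ (n + 1) - 1) * q ^ n * M) * q ^ 4 := by rw [hsub]; ring
    _ ≤ O * (Nat.card P * M) * q ^ 4 := Nat.mul_le_mul_right _ h2'
    _ = O * M * (Nat.card P * q ^ 4) := by ring
    _ ≤ O * M * (2 * (q + 1) * (q ^ (n + 2)) ^ 2) := Nat.mul_le_mul_left _ hP
    _ = _ := by ring

end CfsgLib.WeilRankOne
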