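import Cfsg.Agent.WeilRankOne.Subrep
import Cfsg.Agent.WeilRankOne.OrbitTwo
import Cfsg.Agent.Characters.Orthogonality

/-!
# Classification of the small irreducible representations of `Sp_{2n}`, odd characteristic

An irreducible representation of degree `< B = (q^n - 1)(q^n - q) / (2(q+1))` is trivial or has degree
`(q^n - 1)/2` or `(q^n + 1)/2`; with a fixed class of weights there is at most one of each degree as soon as the
other degree occurs.
-/

set_option autoImplicit false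

namespace CfsgLib.WeilRankOne

open Matrix CfsgLib.RepBounds Module

variable {n : ℕ} {F : Type*} [Field F] [Fintype F] {ψ : AddChar F ℂ}
variable {V : Type*} [AddCommGroup V] [Module ℂ V] [FiniteDimensional ℂ V]
variable {W : Type*} [AddCommGroup W] [Module ℂ W] [FiniteDimensional ℂ W]

omit [Fintype F] in
/-- A functional of rank at least two has an orthogonal anisotropic pair. -/
theorem dual_dichotomy (h2 : (2 : F) ≠ 0) (L : Module.Dual F (symMat n F)) :
    (∃ a b, quadOf L a ≠ 0 ∧ quadOf L b ≠ 0 ∧ polarOf L a b = 0) ∨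
      ∃ c v, L = dualVec c v := by
  by_cases h0 : ∀ a, quadOf L a = 0
  · exact Or.inr ⟨0, 0, (dual_eq_zero h0).trans (LinearMap.ext fun S => by simp [dualVec])⟩
  push Not at h0
  obtain ⟨a, ha⟩ := h0
  by_cases hb : ∃ b, quadOf L b ≠ 0 ∧ polarOf L a b = 0
  · obtain ⟨b, hb1, hb2⟩ := hb
    exact Or.inl ⟨a, b, ha, hb1, hb2⟩
  push Not at hb
  refine Or.inr ?_
  set B := polarOf L with hB
  have hBa : B a a ≠ 0 := by
    rw [hB, polar_self (quadOf L) (polarOf L) (quadOf_add L) (quadOf_smul L)]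
    exact mul_ne_zero h2 ha
  let v : Fin n → F := fun k => B a (Pi.single k 1)
  refine ⟨quadOf L a / B a a ^ 2, v, sub_eq_zero.mp (dual_eq_zero fun x => ?_)⟩
  have hx : quadOf L x = (B a x / B a a) ^ 2 * quadOf L a := by
    set r := B a x / B a a
    have hperp : B a (x - r • a) = 0 := by
      rw [map_sub, map_smul, smul_eq_mul, div_mul_cancel₀ _ hBa, sub_self]
    have hz : quadOf L (x - r • a) = 0 := by
      by_contra h
      exact hb _ h hperp
    have e : x = r • a + (x - r • a) := by abel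
    conv_lhs => rw [e]
    rw [quadOf_add, quadOf_smul, hz, map_smul, LinearMap.smul_apply, hperp, smul_zero, add_zero, add_zero]
  have hv : v ⬝ᵥ x = B a x := by
    conv_rhs => rw [pi_eq_sum_univ' x, map_sum]
    simp only [dotProduct, v, map_smul, smul_eq_mul, mul_comm]
  show L (sqSym x) - dualVec (quadOf L a / B a a ^ 2) v (sqSym x) = 0
  rw [show L (sqSym x) = quadOf L x from rfl, hx]
  show _ - quadOf L a / B a a ^ 2 * (v ⬝ᵥ Matrix.vecMulVec x x *ᵥ v) = 0
  rw [Matrix.vecMulVec_mulVec]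
  simp [dotProduct_smul, dotProduct_comm x v, hv]
  field_simp
  ring

/-- Small representations have rank one. -/
theorem rankOne_of_small (hψ : AddChar.IsPrimitive ψ) (h2 : (2 : F) ≠ 0)
    (ρ : Representation ℂ (Matrix.symplecticGroup (Fin n) F) V)
    (hsmall : finrank ℂ V * (2 * (Fintype.card F + 1)) <
      (Fintype.card F ^ n - 1) * (Fintype.card F ^ n - Fintype.card F)) : RankOne ρ ψ := by
  intro χ x hx h0
  obtain ⟨L, rfl⟩ := exists_dual hψ χ
  rcases dual_dichotomy h2 L with ⟨a, b, ha, hb, hab⟩ | ⟨c, v, rfl⟩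
  · exfalso
    have hmult : 0 < mult (resChar ρ siegelU) (ψ.compAddMonoidHom L.toAddMonoidHom) := by
      rw [Nat.pos_iff_ne_zero, mult, ne_eq, Submodule.finrank_eq_zero]
      intro hbot
      have h1 : x ∈ LinearMap.range (proj (resChar ρ siegelU) (ψ.compAddMonoidHom L.toAddMonoidHom)) :=
        ⟨x, wproj_of_mem ρ hx⟩
      rw [hbot, Submodule.mem_bot] at h1
      exact h0 h1
    have h1 := card_formOrbit_le_finrank ρ hψ L hmult
    have h3 := card_formOrbit_of_orth (quadOf L) (polarOf L) (quadOf_add L) (quadOf_smul L) h2 ha hb hab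
    rw [Module.finrank_fin_fun] at h3
    exact absurd (hsmall.trans_le (h3.trans (Nat.mul_le_mul_right _ h1))) (lt_irrefl _)
  · exact ⟨c, v, rfl⟩

/-- The class `c` occurs among the weights. -/
def HasClass (ρ : Representation ℂ (Matrix.symplecticGroup (Fin n) F) V) (ψ : AddChar F ℂ) (i : Fin n) (c : F) :
    Prop :=
  ∃ m ∈ wsp ρ (wt ψ c (Pi.single i 1)), m ≠ 0

section single

variable (ρ : Representation ℂ (Matrix.symplecticGroup (Fin n) F) V)

omit [Fintype F] [FiniteDimensional ℂ V] in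
theorem hasClass_of_wt {i : Fin n} {c : F} {v : Fin n → F} (hv : v ≠ 0) {x : V}
    (hx : x ∈ wsp ρ (wt ψ c v)) (h0 : x ≠ 0) : HasClass ρ ψ i c := by
  obtain ⟨g, hg⟩ := exists_vecOf i hv
  refine ⟨ρ (leviHom g⁻¹) x, ?_, fun h => h0 ?_⟩
  · have h := leviHom_mem_wt (ψ := ψ) ρ g⁻¹ hx
    rwa [inv_inv, ← hg, vecOf, Matrix.mulVec_mulVec, ← Matrix.transpose_mul, ← Units.val_mul, inv_mul_cancel,
      Units.val_one, Matrix.transpose_one, Matrix.one_mulVec] at h
  · have := congrArg (ρ (leviHom g)) h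
    rwa [map_zero, ← rho_mul_apply, ← map_mul, mul_inv_cancel, map_one, map_one] at this

omit [Fintype F] [FiniteDimensional ℂ V] in
theorem hasClass_sq {i : Fin n} {c r : F} (hr : r ≠ 0) (h : HasClass ρ ψ i c) :
    HasClass ρ ψ i (c * r ^ 2) := by
  obtain ⟨m, hm, hm0⟩ := h
  refine hasClass_of_wt (v := r⁻¹ • Pi.single i 1) ρ ?_ (x := m) ?_ hm0
  · intro h
    exact hr (inv_eq_zero.mp ((smul_eq_zero.mp h).resolve_right fun h' =>
      one_ne_zero (Pi.single_eq_zero_iff.mp h')))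
  · rw [wt_smul, mul_assoc, ← mul_pow, mul_inv_cancel₀ hr, one_pow, mul_one]
    exact hm

/-- An irreducible non-trivial rank-one representation has a class. -/
theorem exists_hasClass (hψ : AddChar.IsPrimitive ψ) (hR : RankOne ρ ψ) (i : Fin n) (hne : ∃ g, ρ g ≠ 1) :
    ∃ c, c ≠ 0 ∧ HasClass ρ ψ i c := by
  obtain ⟨χ, hχ0, x, hx, hx0⟩ : ∃ χ, χ ≠ 0 ∧ ∃ x ∈ wsp ρ χ, x ≠ 0 := by
    by_contra hall
    push Not at hall
    obtain ⟨g, hg⟩ := hne
    apply hg
    have htriv : ∀ S, ρ (siegelU S) = 1 := fun S => LinearMap.ext fun x => by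
      conv_lhs => rw [← sum_wproj ρ x]
      rw [Module.End.one_apply, map_sum]
      conv_rhs => rw [← sum_wproj ρ x]
      refine Finset.sum_congr rfl fun χ _ => ?_
      rcases eq_or_ne χ 0 with rfl | hχ
      · rw [wproj_mem ρ 0 x S, AddChar.zero_apply, one_smul]
      · rw [hall χ hχ _ (wproj_mem ρ χ x), map_zero]
    show g ∈ MonoidHom.ker ρ
    rw [normal_eq_top_of_siegel (Fin.pos i) (MonoidHom.ker ρ) htriv]
    trivial
  obtain ⟨c, v, rfl⟩ := hR χ x hx hx0
  have hc : c ≠ 0 := fun h => hχ0 (by rw [h, wt_zero_coef])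
  have hv : v ≠ 0 := fun h => hχ0 (by rw [h, wt_zero_vec])
  exact ⟨c, hc, hasClass_of_wt ρ hv hx hx0⟩

omit [Fintype F] in
theorem leviHom_neg_one_central : leviHom (-1 : GL (Fin n) F) ∈ Subgroup.center (Matrix.symplecticGroup (Fin n) F) := by
  have h : (leviHom (-1 : GL (Fin n) F) : Matrix (Fin n ⊕ Fin n) (Fin n ⊕ Fin n) F) = -1 := by
    rw [coe_leviHom, show ((-1 : GL (Fin n) F)⁻¹) = -1 by rw [inv_neg, inv_one], Units.val_neg, Units.val_one,
      Matrix.transpose_neg, Matrix.transpose_one]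
    ext a b
    rcases a with a | a <;> rcases b with b | b <;> simp [Matrix.one_apply]
  rw [Subgroup.mem_center_iff]
  intro g
  refine Subtype.ext ?_
  rw [Submonoid.coe_mul, Submonoid.coe_mul, h, mul_neg, neg_mul, mul_one, one_mul]

omit [Fintype F] in
/-- The central sign. -/
theorem exists_sign [ρ.IsIrreducible] :
    ∃ ω : ℂ, (ω = 1 ∨ ω = -1) ∧ ρ (leviHom (-1)) = ω • LinearMap.id := by
  obtain ⟨ω, hω⟩ := CfsgLib.Characters.central_scalar ρ (leviHom_neg_one_central (n := n) (F := F))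
  refine ⟨ω, ?_, hω⟩
  have : Nontrivial V := CfsgLib.Characters.nontrivial_of_isIrreducible ρ
  obtain ⟨x, hx⟩ := exists_ne (0 : V)
  have h : ρ (leviHom (-1)) (ρ (leviHom (-1)) x) = x := by
    rw [← rho_mul_apply, ← map_mul, neg_mul_neg, one_mul, map_one, map_one]
    rfl
  rw [hω] at h
  simp only [LinearMap.smul_apply, LinearMap.id_apply, smul_smul] at h
  have h' : (ω * ω) = 1 := smul_left_injective ℂ hx (h.trans (one_smul ℂ x).symm)
  exact mul_self_eq_one_iff.mp h'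

omit [Fintype F] [FiniteDimensional ℂ V] in
theorem eq_top_of_invariant [hρ : ρ.IsIrreducible] (U : Submodule ℂ V) (hU : ∀ g, ∀ x ∈ U, ρ g x ∈ U) {x : V}
    (hx : x ∈ U) (h0 : x ≠ 0) : U = ⊤ := by
  rcases hρ.eq_bot_or_eq_top (⟨U, fun g v hv => hU g v hv⟩ : Subrepresentation ρ) with h | h
  · exfalso
    have h' : U = ⊥ := congrArg Subrepresentation.toSubmodule h
    rw [h', Submodule.mem_bot] at hx
    exact h0 hx
  · exact congrArg Subrepresentation.toSubmodule h

variable (hψ : AddChar.IsPrimitive ψ) (h2 : (2 : F) ≠ 0) (hR : RankOne ρ ψ)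
include hψ h2 hR

/-- Degree and weights of an irreducible representation with class `c`. -/
theorem irr_data [ρ.IsIrreducible] (hn : 2 ≤ n) {i : Fin n} {c : F} (hc : c ≠ 0) (h : HasClass ρ ψ i c) :
    (wtSet ψ n c).card ≤ finrank ℂ V ∧ finrank ℂ V ≤ (wtSet ψ n c).card + 1 ∧
      ∀ c', c' ≠ 0 → HasClass ρ ψ i c' → ∃ r : F, c' = c * r ^ 2 := by
  obtain ⟨m, hm, hm0⟩ := h
  obtain ⟨ω, -, hω⟩ := exists_sign ρ
  have hneg : ρ (leviHom (-1)) m ∈ ℂ ∙ m := by
    rw [hω]; exact Submodule.smul_mem _ _ (Submodule.mem_span_singleton_self m)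
  obtain ⟨U, hU, hmU, hdim, hwts⟩ := exists_small hψ h2 hR hn hc hm hneg
  have htop := eq_top_of_invariant ρ U hU hmU hm0
  rw [htop, finrank_top] at hdim
  refine ⟨card_wtSet_le hm hm0, hdim, fun c' hc' ⟨x, hx, hx0⟩ => ?_⟩
  obtain ⟨v, -, hv⟩ := mem_wtSet.mp (hwts _
    (wt_ne_zero hψ h2 hc' (fun h => one_ne_zero (Pi.single_eq_zero_iff.mp h))) x (htop ▸ Submodule.mem_top)
    (by rw [wproj_of_mem ρ hx]; exact hx0))
  have := wt_entry hψ h2 hv i i
  simp only [Pi.single_eq_same, mul_one] at this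
  exact ⟨v i, by rw [← this]; ring⟩

end single

/-- Same class and same sign: isomorphic. -/
theorem iso_of_sign (hψ : AddChar.IsPrimitive ψ) (h2 : (2 : F) ≠ 0)
    (ρ : Representation ℂ (Matrix.symplecticGroup (Fin n) F) V)
    (σ : Representation ℂ (Matrix.symplecticGroup (Fin n) F) W)
    [ρ.IsIrreducible] [σ.IsIrreducible] (hρ : RankOne ρ ψ) (hσ : RankOne σ ψ) (hn : 2 ≤ n)
    {i : Fin n} {c : F} (hc : c ≠ 0) (hN : 2 ≤ (wtSet ψ n c).card)
    (hcρ : HasClass ρ ψ i c) (hcσ : HasClass σ ψ i c) {ω : ℂ}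
    (hωρ : ρ (leviHom (-1)) = ω • LinearMap.id) (hωσ : σ (leviHom (-1)) = ω • LinearMap.id) :
    finrank ℂ V = finrank ℂ W ∧ ρ.character = σ.character := by
  obtain ⟨a, ha, ha0⟩ := hcρ
  obtain ⟨b, hb, hb0⟩ := hcσ
  set π := ρ.prod σ with hπdef
  have hπ : ∀ g (p : V × W), π g p = (ρ g p.1, σ g p.2) := fun g p => rfl
  have hR : RankOne π ψ := by
    intro χ p hp hp0
    by_cases h1 : p.1 = 0
    · refine hσ χ p.2 (fun S => ?_) (fun h2' => hp0 (Prod.ext h1 h2'))
      exact congrArg Prod.snd (hp S)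
    · exact hρ χ p.1 (fun S => congrArg Prod.fst (hp S)) h1
  have hm : ((a, b) : V × W) ∈ wsp π (wt ψ c (Pi.single i 1)) := fun S => by
    rw [hπ, ha S, hb S]; rfl
  have hneg : π (leviHom (-1)) (a, b) ∈ ℂ ∙ ((a, b) : V × W) := by
    refine Submodule.mem_span_singleton.mpr ⟨ω, ?_⟩
    rw [hπ, hωρ, hωσ]; rfl
  obtain ⟨U, hU, hmU, hdim, -⟩ := exists_small hψ h2 hR hn hc hm hneg
  have h1 : U.map (LinearMap.fst ℂ V W) = ⊤ := eq_top_of_invariant ρ _ (fun g x hx => by
    obtain ⟨p, hp, rfl⟩ := hx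
    exact ⟨π g p, hU g p hp, rfl⟩) ⟨_, hmU, rfl⟩ ha0
  have h2' : U.map (LinearMap.snd ℂ V W) = ⊤ := eq_top_of_invariant σ _ (fun g x hx => by
    obtain ⟨p, hp, rfl⟩ := hx
    exact ⟨π g p, hU g p hp, rfl⟩) ⟨_, hmU, rfl⟩ hb0
  have hNV : (wtSet ψ n c).card ≤ finrank ℂ V := card_wtSet_le ha ha0
  have hNW : (wtSet ψ n c).card ≤ finrank ℂ W := card_wtSet_le hb hb0
  let p1 : U →ₗ[ℂ] V := (LinearMap.fst ℂ V W).comp U.subtype
  let p2 : U →ₗ[ℂ] W := (LinearMap.snd ℂ V W).comp U.subtype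
  have hs1 : Function.Surjective p1 := fun x => by
    obtain ⟨p, hp, hpx⟩ := (h1.symm ▸ Submodule.mem_top : x ∈ U.map (LinearMap.fst ℂ V W))
    exact ⟨⟨p, hp⟩, hpx⟩
  have hs2 : Function.Surjective p2 := fun x => by
    obtain ⟨p, hp, hpx⟩ := (h2'.symm ▸ Submodule.mem_top : x ∈ U.map (LinearMap.snd ℂ V W))
    exact ⟨⟨p, hp⟩, hpx⟩
  have hnot : ¬ (U = ⊤) := fun h => by
    rw [h, finrank_top, Module.finrank_prod] at hdim
    omega
  have hi1 : Function.Injective p1 := by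
    rw [← LinearMap.ker_eq_bot, LinearMap.ker_eq_bot']
    rintro ⟨p, hp⟩ hp0
    by_contra hne
    have hp1 : p.1 = 0 := hp0
    have hp2 : p.2 ≠ 0 := fun h => hne (Subtype.ext (Prod.ext hp1 h))
    have htop := eq_top_of_invariant σ (U.comap (LinearMap.inr ℂ V W)) (fun g x hx => by
      have : π g ((0 : V), x) = ((0 : V), σ g x) := by rw [hπ, map_zero]
      have h3 := hU g _ hx
      rw [show LinearMap.inr ℂ V W x = ((0 : V), x) from rfl, this] at h3
      exact h3) (x := p.2) (by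
        show ((0 : V), p.2) ∈ U
        rw [← hp1]; exact hp) hp2
    refine hnot (eq_top_iff.mpr fun q _ => ?_)
    obtain ⟨u, hu⟩ := hs1 q.1
    have h4 : ((0 : V), q.2 - (u : V × W).2) ∈ U :=
      (htop.symm ▸ Submodule.mem_top : q.2 - (u : V × W).2 ∈ U.comap (LinearMap.inr ℂ V W))
    have h5 := U.add_mem u.2 h4
    rwa [show (u : V × W) + ((0 : V), q.2 - (u : V × W).2) = q from Prod.ext (by simpa [p1] using hu) (by simp)] at h5
  have hi2 : Function.Injective p2 := by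
    rw [← LinearMap.ker_eq_bot, LinearMap.ker_eq_bot']
    rintro ⟨p, hp⟩ hp0
    by_contra hne
    have hp2 : p.2 = 0 := hp0
    have hp1 : p.1 ≠ 0 := fun h => hne (Subtype.ext (Prod.ext h hp2))
    have htop := eq_top_of_invariant ρ (U.comap (LinearMap.inl ℂ V W)) (fun g x hx => by
      have : π g (x, (0 : W)) = (ρ g x, (0 : W)) := by rw [hπ, map_zero]
      have h3 := hU g _ hx
      rw [show LinearMap.inl ℂ V W x = (x, (0 : W)) from rfl, this] at h3
      exact h3) (x := p.1) (by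
        show (p.1, (0 : W)) ∈ U
        rw [← hp2]; exact hp) hp1
    refine hnot (eq_top_iff.mpr fun q _ => ?_)
    obtain ⟨u, hu⟩ := hs2 q.2
    have h4 : (q.1 - (u : V × W).1, (0 : W)) ∈ U :=
      (htop.symm ▸ Submodule.mem_top : q.1 - (u : V × W).1 ∈ U.comap (LinearMap.inl ℂ V W))
    have h5 := U.add_mem u.2 h4
    rwa [show (u : V × W) + (q.1 - (u : V × W).1, (0 : W)) = q from Prod.ext (by simp) (by simpa [p2] using hu)] at h5
  let e1 := LinearEquiv.ofBijective p1 ⟨hi1, hs1⟩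
  let e := e1.symm.trans (LinearEquiv.ofBijective p2 ⟨hi2, hs2⟩)
  refine ⟨e.finrank_eq, funext fun g => ?_⟩
  have hinter : σ g = e.conj (ρ g) := by
    refine LinearMap.ext fun y => ?_
    obtain ⟨u, rfl⟩ := hs2 y
    rw [LinearEquiv.conj_apply_apply]
    have e2 : e.symm (p2 u) = p1 u := by
      rw [LinearEquiv.symm_apply_eq]
      show p2 u = LinearEquiv.ofBijective p2 ⟨hi2, hs2⟩ (e1.symm (p1 u))
      rw [show e1.symm (p1 u) = u from e1.symm_apply_apply u]
      rfl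
    rw [e2]
    show σ g (p2 u) = LinearEquiv.ofBijective p2 ⟨hi2, hs2⟩ (e1.symm (ρ g (p1 u)))
    have e3 : e1.symm (ρ g (p1 u)) = ⟨π g u, hU g _ u.2⟩ := by
      rw [LinearEquiv.symm_apply_eq]
      rfl
    rw [e3]
    rfl
  show LinearMap.trace ℂ V (ρ g) = LinearMap.trace ℂ W (σ g)
  rw [hinter, LinearMap.trace_conj']

/-- In one class, two representations of equal degree coincide once another degree occurs. -/
theorem char_eq_of_class {U' : Type*} [AddCommGroup U'] [Module ℂ U'] [FiniteDimensional ℂ U']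
    (hψ : AddChar.IsPrimitive ψ) (h2 : (2 : F) ≠ 0)
    (ρ : Representation ℂ (Matrix.symplecticGroup (Fin n) F) V)
    (σ : Representation ℂ (Matrix.symplecticGroup (Fin n) F) W)
    (τ : Representation ℂ (Matrix.symplecticGroup (Fin n) F) U')
    [ρ.IsIrreducible] [σ.IsIrreducible] [τ.IsIrreducible]
    (hρ : RankOne ρ ψ) (hσ : RankOne σ ψ) (hτ : RankOne τ ψ) (hn : 2 ≤ n)
    {i : Fin n} {c : F} (hc : c ≠ 0) (hN : 2 ≤ (wtSet ψ n c).card)
    (hcρ : HasClass ρ ψ i c) (hcσ : HasClass σ ψ i c) (hcτ : HasClass τ ψ i c)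
    (heq : finrank ℂ V = finrank ℂ W) (hne : finrank ℂ U' ≠ finrank ℂ V) : ρ.character = σ.character := by
  obtain ⟨w1, hw1, h1⟩ := exists_sign ρ
  obtain ⟨w2, hw2, h2'⟩ := exists_sign σ
  obtain ⟨w3, hw3, h3⟩ := exists_sign τ
  rcases eq_or_ne w1 w2 with rfl | h12
  · exact (iso_of_sign hψ h2 ρ σ hρ hσ hn hc hN hcρ hcσ h1 h2').2
  exfalso
  have : w3 = w1 ∨ w3 = w2 := by
    rcases hw1 with rfl | rfl <;> rcases hw2 with rfl | rfl <;> rcases hw3 with rfl | rfl <;> simp at h12 ⊢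
  rcases this with rfl | rfl
  · exact hne (iso_of_sign hψ h2 τ ρ hτ hρ hn hc hN hcτ hcρ h3 h1).1
  · exact hne ((iso_of_sign hψ h2 τ σ hτ hσ hn hc hN hcτ hcσ h3 h2').1.trans heq.symm)

end CfsgLib.WeilRankOne
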