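import Cfsg.Agent.RepBounds.Siegel

/-!
# Elements of `Sp_{2n}` attached to one coordinate and to pairs of coordinates

`wEl j` is the reflection in the `j`-th hyperbolic pair; together with the Siegel parabolic it generates the group.
-/

set_option autoImplicit false

namespace CfsgLib.WeilRankOne

open Matrix CfsgLib.RepBounds CfsgLib.Forms

variable {n : ℕ} {F : Type*} [Field F]

theorem single_neg' (i j : Fin n) (a : F) : Matrix.single i j (-a) = -Matrix.single i j a := by
  rw [eq_neg_iff_add_eq_zero, ← Matrix.single_add, neg_add_cancel, Matrix.single_zero]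

theorem single_sub_one (i j : Fin n) (a : F) :
    Matrix.single i j (a - 1) = Matrix.single i j a - Matrix.single i j 1 := by
  rw [sub_eq_add_neg, Matrix.single_add, single_neg', ← sub_eq_add_neg]

/-- `t E_jj`. -/
def dSym (j : Fin n) (t : F) : symMat n F := ⟨Matrix.single j j t, Matrix.transpose_single _ _ _⟩

/-- `x (E_ij + E_ji)`. -/
def offSym (i j : Fin n) (x : F) : symMat n F :=
  ⟨Matrix.single i j x + Matrix.single j i x, by
    show _ = _
    rw [Matrix.transpose_add, Matrix.transpose_single, Matrix.transpose_single, add_comm]⟩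

theorem coe_dSym (j : Fin n) (t : F) : (dSym j t : Matrix (Fin n) (Fin n) F) = Matrix.single j j t := rfl

theorem coe_offSym (i j : Fin n) (x : F) :
    (offSym i j x : Matrix (Fin n) (Fin n) F) = Matrix.single i j x + Matrix.single j i x := rfl

/-- `[1 0; S 1]`. -/
noncomputable def lowerU (S : symMat n F) : Matrix.symplecticGroup (Fin n) F :=
  ⟨Matrix.fromBlocks 1 0 S.1 1, by
    have hS : S.1ᵀ = S.1 := S.2
    rw [SymplecticGroup.mem_iff, Matrix.fromBlocks_transpose, Matrix.J,
      Matrix.fromBlocks_multiply, Matrix.fromBlocks_multiply]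
    simp [hS]⟩

theorem coe_lowerU (S : symMat n F) :
    (lowerU S : Matrix (Fin n ⊕ Fin n) (Fin n ⊕ Fin n) F) = Matrix.fromBlocks 1 0 S.1 1 := rfl

/-- The reflection in the `j`-th hyperbolic pair. -/
noncomputable def wEl (j : Fin n) : Matrix.symplecticGroup (Fin n) F :=
  siegelU (dSym j 1) * lowerU (dSym j (-1)) * siegelU (dSym j 1)

/-- The Levi homomorphism. -/
noncomputable def leviHom : GL (Fin n) F →* Matrix.symplecticGroup (Fin n) F where
  toFun := leviEl
  map_one' := Subtype.ext (by simp [leviEl, leviMat])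
  map_mul' g h := Subtype.ext (by
    simp [leviEl, leviMat, Matrix.fromBlocks_multiply, _root_.mul_inv_rev, Matrix.transpose_mul])

theorem leviHom_apply (g : GL (Fin n) F) : leviHom g = leviEl g := rfl

theorem coe_leviHom (g : GL (Fin n) F) :
    (leviHom g : Matrix (Fin n ⊕ Fin n) (Fin n ⊕ Fin n) F) =
      Matrix.fromBlocks (g : Matrix (Fin n) (Fin n) F) 0 0 ((g⁻¹ : GL (Fin n) F) : Matrix (Fin n) (Fin n) F)ᵀ := rfl

theorem coe_siegelU' (S : symMat n F) :
    (siegelU S : Matrix (Fin n ⊕ Fin n) (Fin n ⊕ Fin n) F) = Matrix.fromBlocks 1 S.1 0 1 := rfl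

/-- `diag(1, .., t, .., 1)`. -/
noncomputable def dgEl (j : Fin n) (t : Fˣ) : GL (Fin n) F where
  val := 1 + Matrix.single j j ((t : F) - 1)
  inv := 1 + Matrix.single j j (((t⁻¹ : Fˣ) : F) - 1)
  val_inv := by
    simp only [mul_add, add_mul, one_mul, mul_one, Matrix.single_mul_single_same, add_assoc, ← Matrix.single_add]
    rw [add_eq_left, ← Matrix.single_zero j j]
    congr 1
    linear_combination t.mul_inv
  inv_val := by
    simp only [mul_add, add_mul, one_mul, mul_one, Matrix.single_mul_single_same, add_assoc, ← Matrix.single_add]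
    rw [add_eq_left, ← Matrix.single_zero j j]
    congr 1
    linear_combination t.inv_mul

/-- `1 + x E_ij`. -/
noncomputable def trEl (i j : Fin n) (hij : i ≠ j) (x : F) : GL (Fin n) F where
  val := 1 + Matrix.single i j x
  inv := 1 + Matrix.single i j (-x)
  val_inv := by
    simp only [mul_add, add_mul, one_mul, mul_one, Matrix.single_mul_single_of_ne x i j i hij.symm, add_zero,
      add_assoc, ← Matrix.single_add, add_neg_cancel, Matrix.single_zero]
  inv_val := by
    simp only [mul_add, add_mul, one_mul, mul_one, Matrix.single_mul_single_of_ne (-x) i j i hij.symm, add_zero,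
      add_assoc, ← Matrix.single_add, neg_add_cancel, Matrix.single_zero]

theorem coe_dgEl (j : Fin n) (t : Fˣ) :
    (dgEl j t : Matrix (Fin n) (Fin n) F) = 1 + Matrix.single j j ((t : F) - 1) := rfl

theorem coe_dgEl_inv (j : Fin n) (t : Fˣ) :
    ((dgEl j t)⁻¹ : GL (Fin n) F).1 = 1 + Matrix.single j j (((t⁻¹ : Fˣ) : F) - 1) := rfl

theorem coe_trEl (i j : Fin n) (hij : i ≠ j) (x : F) :
    (trEl i j hij x : Matrix (Fin n) (Fin n) F) = 1 + Matrix.single i j x := rfl

theorem coe_trEl_inv (i j : Fin n) (hij : i ≠ j) (x : F) :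
    ((trEl i j hij x)⁻¹ : GL (Fin n) F).1 = 1 + Matrix.single i j (-x) := rfl

theorem trEl_add (i j : Fin n) (hij : i ≠ j) (x y : F) :
    trEl i j hij (x + y) = trEl i j hij x * trEl i j hij y := by
  refine Units.ext ?_
  simp only [Units.val_mul, coe_trEl, mul_add, add_mul, one_mul, mul_one,
    Matrix.single_mul_single_of_ne x i j i hij.symm, add_zero, add_assoc, Matrix.single_add]

theorem trEl_zero (i j : Fin n) (hij : i ≠ j) : trEl i j hij (0 : F) = 1 :=
  Units.ext (by simp [coe_trEl])

theorem dgEl_mul (j : Fin n) (s t : Fˣ) : dgEl j s * dgEl j t = dgEl j (s * t) := by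
  refine Units.ext ?_
  simp only [Units.val_mul, coe_dgEl, mul_add, add_mul, one_mul, mul_one, Matrix.single_mul_single_same,
    add_assoc, ← Matrix.single_add]
  congr 2
  ring

theorem dgEl_one (j : Fin n) : dgEl j (1 : Fˣ) = 1 := Units.ext (by simp [coe_dgEl])

theorem dgEl_mul_trEl (i l : Fin n) (hil : i ≠ l) (t : Fˣ) (x : F) :
    dgEl i t * trEl i l hil x = trEl i l hil (t * x) * dgEl i t := by
  refine Units.ext ?_
  simp only [Units.val_mul, coe_dgEl, coe_trEl, mul_add, add_mul, one_mul, mul_one,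
    Matrix.single_mul_single_same, Matrix.single_mul_single_of_ne _ i l i hil.symm, add_zero]
  rw [show ((t : F) * x) = x + ((t : F) - 1) * x by ring, Matrix.single_add]
  abel

theorem coe_wEl (j : Fin n) :
    (wEl (F := F) j : Matrix (Fin n ⊕ Fin n) (Fin n ⊕ Fin n) F) =
      Matrix.fromBlocks (1 - Matrix.single j j 1) (Matrix.single j j 1) (-Matrix.single j j 1)
        (1 - Matrix.single j j 1) := by
  simp only [wEl, Submonoid.coe_mul, coe_siegelU', coe_lowerU, coe_dSym, Matrix.fromBlocks_multiply,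
    one_mul, mul_one, mul_zero, zero_mul, zero_add, add_zero, Matrix.single_mul_single_same, mul_neg,
    neg_mul, single_neg', neg_neg, add_mul, Matrix.fromBlocks_inj]
  refine ⟨?_, ?_, ?_, ?_⟩ <;> first | abel | simp

theorem wEl_comm_siegelU (j : Fin n) (S : symMat n F) (hS : ∀ k, S.1 j k = 0) :
    wEl j * siegelU S = siegelU S * wEl j := by
  have h1 : Matrix.single j j (1 : F) * S.1 = 0 := by
    ext a b
    by_cases h : a = j
    · subst h; simp [hS]
    · simp [h]
  have h2 : S.1 * Matrix.single j j (1 : F) = 0 := by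
    have := congrArg Matrix.transpose h1
    rw [Matrix.transpose_mul, Matrix.transpose_single, Matrix.transpose_zero,
      show S.1ᵀ = S.1 from S.2] at this
    exact this
  refine Subtype.ext ?_
  simp only [Submonoid.coe_mul, coe_wEl, coe_siegelU', Matrix.fromBlocks_multiply, one_mul, mul_one,
    mul_zero, zero_mul, zero_add, add_zero, mul_neg, neg_mul, h1, h2, sub_mul, mul_sub, neg_zero, sub_zero,
    Matrix.fromBlocks_inj]
  refine ⟨?_, ?_, ?_, ?_⟩ <;> first | abel | simp

theorem wEl_comm_leviHom (j : Fin n) (g : GL (Fin n) F)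
    (h1 : (g : Matrix (Fin n) (Fin n) F) * Matrix.single j j 1 = Matrix.single j j 1)
    (h2 : Matrix.single j j 1 * (g : Matrix (Fin n) (Fin n) F) = Matrix.single j j 1) :
    wEl j * leviHom g = leviHom g * wEl j := by
  have h3 : ((g⁻¹ : GL (Fin n) F) : Matrix (Fin n) (Fin n) F) * Matrix.single j j 1 = Matrix.single j j 1 := by
    conv_lhs => rw [← h1, ← mul_assoc, ← Units.val_mul, inv_mul_cancel, Units.val_one, one_mul]
  have h4 : Matrix.single j j 1 * ((g⁻¹ : GL (Fin n) F) : Matrix (Fin n) (Fin n) F) = Matrix.single j j 1 := by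
    conv_lhs => rw [← h2, mul_assoc, ← Units.val_mul, mul_inv_cancel, Units.val_one, mul_one]
  have h5 := congrArg Matrix.transpose h3
  have h6 := congrArg Matrix.transpose h4
  rw [Matrix.transpose_mul, Matrix.transpose_single] at h5 h6
  refine Subtype.ext ?_
  simp only [Submonoid.coe_mul, coe_wEl, coe_leviHom, Matrix.fromBlocks_multiply, one_mul, mul_one,
    mul_zero, zero_mul, zero_add, add_zero, mul_neg, neg_mul, sub_mul, mul_sub, h1, h2, h5, h6, neg_zero, sub_zero, sub_self]

theorem wEl_mul_offSym (i j : Fin n) (hij : i ≠ j) (x : F) :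
    wEl j * siegelU (offSym i j x) = leviHom (trEl i j hij x) * wEl j := by
  refine Subtype.ext ?_
  simp only [Submonoid.coe_mul, coe_wEl, coe_siegelU', coe_leviHom, coe_offSym, coe_trEl, coe_trEl_inv,
    Matrix.transpose_add, Matrix.transpose_one, Matrix.transpose_single, Matrix.transpose_neg, Matrix.transpose_sub, Matrix.fromBlocks_multiply,
    one_mul, mul_one, mul_zero, zero_mul, zero_add, add_zero, mul_neg, neg_mul, sub_mul, mul_sub,
    mul_add, add_mul, Matrix.single_mul_single_same, Matrix.single_mul_single_of_ne _ _ j i hij.symm,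
    Matrix.single_mul_single_of_ne _ _ i j hij, single_neg', neg_neg, neg_zero, add_zero, sub_zero, Matrix.fromBlocks_inj]
  refine ⟨?_, ?_, ?_, ?_⟩ <;> first | abel | simp

theorem wEl_mul_trEl (i j : Fin n) (hij : i ≠ j) (x : F) :
    wEl j * leviHom (trEl i j hij x) = siegelU (offSym i j (-x)) * wEl j := by
  refine Subtype.ext ?_
  simp only [Submonoid.coe_mul, coe_wEl, coe_siegelU', coe_leviHom, coe_offSym, coe_trEl, coe_trEl_inv,
    Matrix.transpose_add, Matrix.transpose_one, Matrix.transpose_single, Matrix.transpose_neg, Matrix.transpose_sub, Matrix.fromBlocks_multiply,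
    one_mul, mul_one, mul_zero, zero_mul, zero_add, add_zero, mul_neg, neg_mul, sub_mul, mul_sub,
    mul_add, add_mul, Matrix.single_mul_single_same, Matrix.single_mul_single_of_ne _ _ j i hij.symm,
    Matrix.single_mul_single_of_ne _ _ i j hij, single_neg', neg_neg, neg_zero, add_zero, sub_zero, Matrix.fromBlocks_inj]
  refine ⟨?_, ?_, ?_, ?_⟩ <;> first | abel | simp

theorem wEl_mul_dSym (j : Fin n) (s : F) :
    wEl j * siegelU (dSym j s) = lowerU (dSym j (-s)) * wEl j := by
  refine Subtype.ext ?_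
  simp only [Submonoid.coe_mul, coe_wEl, coe_siegelU', coe_lowerU, coe_dSym, Matrix.fromBlocks_multiply,
    one_mul, mul_one, mul_zero, zero_mul, zero_add, add_zero, mul_neg, neg_mul, sub_mul, mul_sub,
    Matrix.single_mul_single_same, single_neg', neg_neg, Matrix.fromBlocks_inj]
  refine ⟨?_, ?_, ?_, ?_⟩ <;> first | abel | simp

/-- The torus of the `j`-th pair from three root elements. -/
theorem dgEl_mul_wEl (j : Fin n) (t : Fˣ) :
    leviHom (dgEl j t) * wEl j =
      siegelU (dSym j (t : F)) * lowerU (dSym j (-((t⁻¹ : Fˣ) : F))) * siegelU (dSym j (t : F)) := by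
  refine Subtype.ext ?_
  simp only [Submonoid.coe_mul, coe_wEl, coe_siegelU', coe_lowerU, coe_dSym, coe_leviHom, coe_dgEl,
    coe_dgEl_inv, Matrix.transpose_add, Matrix.transpose_one, Matrix.transpose_single,
    Matrix.transpose_neg, Matrix.transpose_sub, Matrix.fromBlocks_multiply, one_mul, mul_one, mul_zero, zero_mul, zero_add, add_zero, mul_neg, neg_mul,
    sub_mul, mul_sub, add_mul, mul_add, Matrix.single_mul_single_same, single_neg', neg_neg, single_sub_one,
    Units.mul_inv, Units.inv_mul, Matrix.fromBlocks_inj]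
  refine ⟨?_, ?_, ?_, ?_⟩ <;> first | abel | simp

theorem wEl_mul_self (j : Fin n) : wEl (F := F) j * wEl j = leviHom (dgEl j (-1)) := by
  have hi : ((-1 : Fˣ)⁻¹ : Fˣ) = -1 := by rw [inv_neg, inv_one]
  refine Subtype.ext ?_
  simp only [Submonoid.coe_mul, coe_wEl, coe_leviHom, coe_dgEl, coe_dgEl_inv, hi, Units.val_neg,
    Units.val_one, Matrix.transpose_add, Matrix.transpose_one, Matrix.transpose_single,
    Matrix.transpose_neg, Matrix.transpose_sub, Matrix.fromBlocks_multiply, one_mul, mul_one, mul_neg, neg_mul, sub_mul, mul_sub, add_mul, mul_add,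
    Matrix.single_mul_single_same, sub_eq_add_neg, Matrix.single_add, single_neg', neg_neg, mul_zero, zero_mul,
    add_zero, zero_add, neg_zero, neg_add_rev, neg_mul_neg,
    Matrix.fromBlocks_inj]
  refine ⟨?_, ?_, ?_, ?_⟩ <;> first | abel | simp

theorem dgEl_neg_one_sq (j : Fin n) : dgEl j (-1 : Fˣ) * dgEl j (-1) = 1 := by
  rw [dgEl_mul, neg_mul_neg, one_mul, dgEl_one]

theorem wEl_inv (j : Fin n) : (wEl (F := F) j)⁻¹ = wEl j * leviHom (dgEl j (-1)) := by
  refine inv_eq_of_mul_eq_one_right ?_
  rw [← mul_assoc, wEl_mul_self, ← map_mul, dgEl_neg_one_sq, map_one]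

theorem leviHom_dgEl_inv_wEl (j : Fin n) (t : Fˣ) :
    wEl j * leviHom (dgEl j t) = leviHom (dgEl j t⁻¹) * wEl j := by
  refine Subtype.ext ?_
  simp only [Submonoid.coe_mul, coe_wEl, coe_leviHom, coe_dgEl, coe_dgEl_inv, inv_inv,
    Matrix.transpose_add, Matrix.transpose_one, Matrix.transpose_single, Matrix.transpose_neg, Matrix.transpose_sub, Matrix.fromBlocks_multiply,
    one_mul, mul_one, mul_zero, zero_mul, zero_add, add_zero, mul_neg, neg_mul, sub_mul, mul_sub,
    add_mul, mul_add, Matrix.single_mul_single_same, Matrix.fromBlocks_inj]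
  refine ⟨?_, ?_, ?_, ?_⟩ <;> first | abel | simp

/-- A linear automorphism taking a basis vector to a given vector, fixing the other coordinates where it vanishes. -/
theorem exists_gl (i : Fin n) (v : Fin n → F) (hv : v ≠ 0) :
    ∃ g : GL (Fin n) F, (g : Matrix (Fin n) (Fin n) F) *ᵥ Pi.single i 1 = v ∧
      ∀ j, j ≠ i → v j = 0 →
        (g : Matrix (Fin n) (Fin n) F) * Matrix.single j j 1 = Matrix.single j j 1 ∧
          Matrix.single j j 1 * (g : Matrix (Fin n) (Fin n) F) = Matrix.single j j 1 := by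
  classical
  have base : ∀ u : Fin n → F, u i ≠ 0 → ∃ g : GL (Fin n) F,
      (g : Matrix (Fin n) (Fin n) F) *ᵥ Pi.single i 1 = u ∧
      ∀ j, j ≠ i → u j = 0 →
        (g : Matrix (Fin n) (Fin n) F) * Matrix.single j j 1 = Matrix.single j j 1 ∧
          Matrix.single j j 1 * (g : Matrix (Fin n) (Fin n) F) = Matrix.single j j 1 := by
    intro u hu
    refine ⟨GeneralLinearGroup.mkOfDetNeZero ((1 : Matrix (Fin n) (Fin n) F).updateCol i u) ?_, ?_, ?_⟩
    · rw [← Matrix.cramer_apply, Matrix.cramer_one]; exact hu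
    · show ((1 : Matrix (Fin n) (Fin n) F).updateCol i u) *ᵥ Pi.single i 1 = u
      ext k
      rw [Matrix.mulVec_single_one]
      simp [Matrix.col_apply]
    · intro j hji huj
      show ((1 : Matrix (Fin n) (Fin n) F).updateCol i u) * _ = _ ∧ _ * ((1 : Matrix (Fin n) (Fin n) F).updateCol i u) = _
      constructor
      · ext a b
        by_cases hb : b = j
        · subst hb
          simp [Matrix.mul_single_apply_same, hji, Matrix.one_apply, Matrix.single_apply, eq_comm]
        · simp [Matrix.mul_single_apply_of_ne, hb, Matrix.single_apply, Ne.symm hb]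
      · ext a b
        by_cases ha : a = j
        · subst ha
          by_cases hb : b = i
          · subst hb; simp [huj, Matrix.single_apply, hji]
          · simp [hb, Matrix.one_apply, Matrix.single_apply, eq_comm]
        · simp [Matrix.single_mul_apply_of_ne, ha, Matrix.single_apply, Ne.symm ha]
  by_cases hvi : v i = 0
  swap
  · exact base v hvi
  obtain ⟨k, hk⟩ : ∃ k, v k ≠ 0 := Function.ne_iff.mp hv
  have hik : i ≠ k := fun h => hk (h ▸ hvi)
  obtain ⟨g, hg1, hg2⟩ := base (v + Pi.single i (v k)) (by simp [hvi, hk])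
  refine ⟨trEl i k hik (-1) * g, ?_, ?_⟩
  · rw [Units.val_mul, ← Matrix.mulVec_mulVec, hg1, coe_trEl, Matrix.add_mulVec, Matrix.one_mulVec,
      Matrix.single_mulVec]
    ext l
    by_cases hl : l = i
    · subst hl; simp [hvi, hik, Ne.symm hik]
    · simp [hl]
  · intro j hji hvj
    obtain ⟨h1, h2⟩ := hg2 j hji (by simp [hvj, hji])
    have hjk : j ≠ k := fun h => hk (h ▸ hvj)
    constructor
    · rw [Units.val_mul, mul_assoc, h1, coe_trEl, add_mul, one_mul,
        Matrix.single_mul_single_of_ne _ _ _ _ hjk.symm, add_zero]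
    · rw [Units.val_mul, ← mul_assoc, coe_trEl, mul_add, mul_one,
        Matrix.single_mul_single_of_ne _ _ _ _ hji, add_zero, h2]

/-- The Siegel parabolic and one reflection generate. -/
theorem eq_top_of_mem (j : Fin n) (H : Subgroup (Matrix.symplecticGroup (Fin n) F))
    (hU : ∀ S, siegelU S ∈ H) (hL : ∀ g, leviHom g ∈ H) (hw : wEl j ∈ H) : H = ⊤ := by
  classical
  have horb : ∀ x : Fin n ⊕ Fin n → F, x ≠ 0 →
      ∃ A ∈ H, (A : Matrix (Fin n ⊕ Fin n) (Fin n ⊕ Fin n) F) *ᵥ Pi.single (Sum.inl j) 1 = x := by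
    intro x hx
    by_cases hb : x ∘ Sum.inr = 0
    · have ha : x ∘ Sum.inl ≠ 0 := fun h => hx (funext fun k => by
        rcases k with k | k
        · exact congrFun h k
        · exact congrFun hb k)
      obtain ⟨g, hg, -⟩ := exists_gl j _ ha
      refine ⟨leviHom g, hL g, ?_⟩
      rw [coe_leviHom, Matrix.fromBlocks_mulVec]
      ext k
      rcases k with k | k
      · have e1 : (Pi.single (Sum.inl j) (1 : F) : Fin n ⊕ Fin n → F) ∘ Sum.inl = Pi.single j 1 :=
          funext fun l => by simp [Pi.single_apply]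
        have e2 : (Pi.single (Sum.inl j) (1 : F) : Fin n ⊕ Fin n → F) ∘ Sum.inr = 0 :=
          funext fun l => by simp
        simp only [Sum.elim_inl, e1, e2, Matrix.mulVec_zero, add_zero, Pi.add_apply, hg]
        simp
      · have e2 : (Pi.single (Sum.inl j) (1 : F) : Fin n ⊕ Fin n → F) ∘ Sum.inr = 0 :=
          funext fun l => by simp
        simp only [Sum.elim_inr, e2, Matrix.zero_mulVec, Matrix.mulVec_zero, add_zero, Pi.add_apply]
        exact (congrFun hb k).symm
    · obtain ⟨g, hg, -⟩ := exists_gl j _ hb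
      set g' : GL (Fin n) F := GeneralLinearGroup.mkOfDetNeZero
        (((g⁻¹ : GL (Fin n) F) : Matrix (Fin n) (Fin n) F)ᵀ) (by
          rw [Matrix.det_transpose]; exact ((g⁻¹).isUnit.map Matrix.detMonoidHom).ne_zero) with hg'
      have hg'' : ((g'⁻¹ : GL (Fin n) F) : Matrix (Fin n) (Fin n) F)ᵀ = g := by
        have h1 : (g'⁻¹ : GL (Fin n) F).1 = (g : Matrix (Fin n) (Fin n) F)ᵀ := by
          rw [Matrix.coe_units_inv]
          refine Matrix.inv_eq_left_inv ?_
          show _ * (((g⁻¹ : GL (Fin n) F) : Matrix (Fin n) (Fin n) F)ᵀ) = 1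
          rw [← Matrix.transpose_mul, ← Units.val_mul, inv_mul_cancel, Units.val_one, Matrix.transpose_one]
        rw [h1, Matrix.transpose_transpose]
      set a : Fin n → F := ((g'⁻¹ : GL (Fin n) F) : Matrix (Fin n) (Fin n) F) *ᵥ (x ∘ Sum.inl) with ha
      let S : symMat n F := mulSym a (Pi.single j 1) - dSym j (a j)
      have hS : S.1 *ᵥ Pi.single j 1 = a := by
        ext k
        by_cases h : k = j
        · subst h
          simp [S, mulSym, dSym, Matrix.vecMulVec_apply]
        · simp [S, mulSym, dSym, Matrix.vecMulVec_apply, Matrix.single_apply, h, Ne.symm h]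
      refine ⟨leviHom g' * siegelU S * (wEl j)⁻¹, H.mul_mem (H.mul_mem (hL _) (hU _)) (H.inv_mem hw), ?_⟩
      have hwinv : (((wEl j)⁻¹ : Matrix.symplecticGroup (Fin n) F) : Matrix (Fin n ⊕ Fin n) (Fin n ⊕ Fin n) F) *ᵥ
          Pi.single (Sum.inl j) 1 = Pi.single (Sum.inr j) 1 := by
        have h : (wEl (F := F) j : Matrix (Fin n ⊕ Fin n) (Fin n ⊕ Fin n) F) *ᵥ Pi.single (Sum.inr j) 1 =
            Pi.single (Sum.inl j) 1 := by
          rw [coe_wEl, Matrix.fromBlocks_mulVec]
          ext k
          rcases k with k | k <;>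
            simp [Function.comp_def, Pi.single_apply, Matrix.mulVec, dotProduct, Matrix.single_apply,
              Matrix.one_apply, eq_comm]
        rw [← h, Matrix.mulVec_mulVec, ← Submonoid.coe_mul, inv_mul_cancel, Submonoid.coe_one, Matrix.one_mulVec]
      simp only [Submonoid.coe_mul, ← Matrix.mulVec_mulVec, hwinv, coe_siegelU', coe_leviHom, hg'']
      have e1 : Matrix.fromBlocks (1 : Matrix (Fin n) (Fin n) F) S.1 0 (1 : Matrix (Fin n) (Fin n) F) *ᵥ Pi.single (Sum.inr j) 1 = Sum.elim a (Pi.single j 1) := by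
        rw [Matrix.fromBlocks_mulVec]
        ext k
        rcases k with k | k
        · simp [Function.comp_def, ← hS, Pi.single_apply, Matrix.mulVec, dotProduct]
        · simp [Function.comp_def, Pi.single_apply]
      rw [e1, Matrix.fromBlocks_mulVec, Sum.elim_comp_inl, Sum.elim_comp_inr, Matrix.zero_mulVec,
        Matrix.zero_mulVec, add_zero, zero_add, hg, ha, Matrix.mulVec_mulVec, ← Units.val_mul, mul_inv_cancel,
        Units.val_one, Matrix.one_mulVec, Sum.elim_comp_inl_inr]
  rw [eq_top_iff, ← transvGroup_eq_top, transvGroup, Subgroup.closure_le]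
  rintro _ ⟨x, -, c, rfl⟩
  rcases eq_or_ne x 0 with rfl | hx
  · have : spTransv (0 : Fin n ⊕ Fin n → F) c = 1 := sp_ext fun v => by
      simp [spTransv, sympTransvection_mulVec]
    rw [this]; exact one_mem H
  obtain ⟨A, hA, hAw⟩ := horb x hx
  have : spTransv x c = A * spTransv (Pi.single (Sum.inl j) 1) c * A⁻¹ := by
    rw [eq_mul_inv_iff_mul_eq]
    refine sp_ext fun y => ?_
    simp only [Submonoid.coe_mul, ← Matrix.mulVec_mulVec, spTransv, sympTransvection_mulVec,
      Matrix.mulVec_add, Matrix.mulVec_smul, hAw]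
    rw [← hAw, sympForm_map]
  rw [this, spTransv_inl j c (dSym j c) rfl]
  exact H.mul_mem (H.mul_mem hA (hU _)) (H.inv_mem hA)

theorem wEl_comm_wEl {i j : Fin n} (hij : i ≠ j) : wEl (F := F) i * wEl j = wEl j * wEl i := by
  refine Subtype.ext ?_
  simp only [Submonoid.coe_mul, coe_wEl, Matrix.fromBlocks_multiply, mul_neg, neg_mul, sub_mul, mul_sub,
    one_mul, mul_one, Matrix.single_mul_single_of_ne _ _ _ _ hij, Matrix.single_mul_single_of_ne _ _ _ _ hij.symm,
    neg_zero, sub_zero, add_zero, zero_add, Matrix.fromBlocks_inj]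
  refine ⟨?_, ?_, ?_, ?_⟩ <;> first | abel | simp

/-- The dual element `(gᵀ)⁻¹`. -/
def dualGL (g : GL (Fin n) F) : GL (Fin n) F where
  val := ((g⁻¹ : GL (Fin n) F) : Matrix (Fin n) (Fin n) F)ᵀ
  inv := (g : Matrix (Fin n) (Fin n) F)ᵀ
  val_inv := by rw [← Matrix.transpose_mul, ← Units.val_mul, mul_inv_cancel, Units.val_one, Matrix.transpose_one]
  inv_val := by rw [← Matrix.transpose_mul, ← Units.val_mul, inv_mul_cancel, Units.val_one, Matrix.transpose_one]

theorem coe_dualGL_inv (g : GL (Fin n) F) :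
    ((dualGL g)⁻¹ : GL (Fin n) F).1 = (g : Matrix (Fin n) (Fin n) F)ᵀ := rfl

theorem dualGL_fix {g : GL (Fin n) F} {j : Fin n}
    (h1 : (g : Matrix (Fin n) (Fin n) F) * Matrix.single j j 1 = Matrix.single j j 1)
    (h2 : Matrix.single j j 1 * (g : Matrix (Fin n) (Fin n) F) = Matrix.single j j 1) :
    (dualGL g : Matrix (Fin n) (Fin n) F) * Matrix.single j j 1 = Matrix.single j j 1 ∧
      Matrix.single j j 1 * (dualGL g : Matrix (Fin n) (Fin n) F) = Matrix.single j j 1 := by
  have h3 : ((g⁻¹ : GL (Fin n) F) : Matrix (Fin n) (Fin n) F) * Matrix.single j j 1 = Matrix.single j j 1 := by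
    conv_lhs => rw [← h1, ← mul_assoc, ← Units.val_mul, inv_mul_cancel, Units.val_one, one_mul]
  have h4 : Matrix.single j j 1 * ((g⁻¹ : GL (Fin n) F) : Matrix (Fin n) (Fin n) F) = Matrix.single j j 1 := by
    conv_lhs => rw [← h2, mul_assoc, ← Units.val_mul, mul_inv_cancel, Units.val_one, mul_one]
  constructor
  · have := congrArg Matrix.transpose h4
    rwa [Matrix.transpose_mul, Matrix.transpose_single] at this
  · have := congrArg Matrix.transpose h3
    rwa [Matrix.transpose_mul, Matrix.transpose_single] at this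

/-- A product of transvections exchanging two coordinates. -/
noncomputable def swEl (i a : Fin n) (h : i ≠ a) : GL (Fin n) F :=
  trEl i a h 1 * trEl a i h.symm (-1) * trEl i a h 1

theorem dgEl_mul_swEl (i a : Fin n) (h : i ≠ a) (t : Fˣ) :
    dgEl i t * swEl i a h = swEl i a h * dgEl a t := by
  refine Units.ext ?_
  simp only [swEl, Units.val_mul, coe_dgEl, coe_trEl, mul_add, add_mul, one_mul, mul_one,
    Matrix.single_mul_single_same, Matrix.single_mul_single_of_ne _ _ _ _ h,
    Matrix.single_mul_single_of_ne _ _ _ _ h.symm, single_neg', single_sub_one, mul_neg, neg_mul, mul_sub,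
    sub_mul, add_zero, zero_add, neg_zero, sub_zero]
  abel

end CfsgLib.WeilRankOne
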