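import Cfsg.Agent.WeilRankOne.Elements

/-!
# Generators of `GL_n` and of the stabiliser of a row
-/

set_option autoImplicit false

namespace CfsgLib.WeilRankOne

open Matrix

variable {n : ℕ} {F : Type*} [Field F]

theorem diagonal_generated (P : GL (Fin n) F → Prop) (h1 : P 1) (hmul : ∀ g h, P g → P h → P (g * h))
    (s : Finset (Fin n)) (hd : ∀ k ∈ s, ∀ t, P (dgEl k t)) (D : Fin n → F) (hD : ∀ k ∉ s, D k = 1)
    (g : GL (Fin n) F) (hg : (g : Matrix (Fin n) (Fin n) F) = Matrix.diagonal D) : P g := by
  classical
  induction s using Finset.induction_on generalizing D g with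
  | empty =>
    have : g = 1 := Units.ext (by rw [hg, Units.val_one, ← Matrix.diagonal_one]; congr 1; funext k; exact hD k (by simp))
    rw [this]; exact h1
  | @insert a s ha ih =>
    have hDa : D a ≠ 0 := by
      have h := (g.isUnit.map Matrix.detMonoidHom).ne_zero
      simp only [Matrix.coe_detMonoidHom, hg, Matrix.det_diagonal] at h
      exact Finset.prod_ne_zero_iff.mp h a (Finset.mem_univ a)
    set t : Fˣ := Units.mk0 (D a) hDa with ht
    have e : g = dgEl a t * (dgEl a t⁻¹ * g) := by
      rw [← mul_assoc, dgEl_mul, mul_inv_cancel, dgEl_one, one_mul]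
    rw [e]
    refine hmul _ _ (hd a (Finset.mem_insert_self a s) t) ?_
    refine ih (fun k hk u => hd k (Finset.mem_insert_of_mem hk) u) (Function.update D a 1) ?_ _ ?_
    · intro k hk
      by_cases hka : k = a
      · subst hka; simp
      · rw [Function.update_of_ne hka]
        exact hD k (by simp [hka, hk])
    · rw [Units.val_mul, coe_dgEl, hg, add_mul, one_mul]
      ext k l
      by_cases hkl : k = l
      · subst hkl
        by_cases hka : k = a
        · subst hka
          simp [Matrix.single_mul_apply_same, ht, sub_mul, hDa]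
        · simp [Matrix.single_mul_apply_of_ne, hka, Ne.symm hka, Matrix.single_apply, Function.update_of_ne]
      · by_cases hka : k = a
        · subst hka
          simp [hkl]
        · simp [Matrix.single_mul_apply_of_ne, hka, Ne.symm hka, Matrix.single_apply, hkl]

/-- Induction over generators of `GL_n`. -/
theorem gl_induction (P : GL (Fin n) F → Prop) (h1 : P 1) (hmul : ∀ g h, P g → P h → P (g * h))
    (htr : ∀ k l (h : k ≠ l) x, P (trEl k l h x)) (hd : ∀ k t, P (dgEl k t)) (g : GL (Fin n) F) : P g := by
  classical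
  refine (diagonal_transvection_induction_of_det_ne_zero
    (fun M => ∀ g : GL (Fin n) F, g.1 = M → P g) g.1 ?_ ?_ ?_ ?_) g rfl
  · exact (g.isUnit.map Matrix.detMonoidHom).ne_zero
  · exact fun D _ g' hg' => diagonal_generated P h1 hmul Finset.univ (fun k _ => hd k) D (by simp) g' hg'
  · intro t g' hg'
    have : g' = trEl t.i t.j t.hij t.c := Units.ext (by rw [hg', coe_trEl]; rfl)
    rw [this]; exact htr _ _ _ _
  · intro A B hA hB ihA ihB g' hg'
    have : g' = GeneralLinearGroup.mkOfDetNeZero A hA * GeneralLinearGroup.mkOfDetNeZero B hB :=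
      Units.ext hg'
    rw [this]
    exact hmul _ _ (ihA _ rfl) (ihB _ rfl)

/-- Induction over generators of the matrices whose `i`-th row is that of the identity. -/
theorem stab_induction (i : Fin n) (P : GL (Fin n) F → Prop) (h1 : P 1) (hmul : ∀ g h, P g → P h → P (g * h))
    (htr : ∀ k l, k ≠ i → ∀ (h : k ≠ l) x, P (trEl k l h x)) (hd : ∀ k, k ≠ i → ∀ t, P (dgEl k t))
    (g : GL (Fin n) F) (hg : ∀ k, (g : Matrix (Fin n) (Fin n) F) i k = if k = i then 1 else 0) :
    P g := by
  classical
  let e : {k : Fin n // k ≠ i} ⊕ {k : Fin n // ¬ k ≠ i} ≃ Fin n := Equiv.sumCompl (fun k => k ≠ i)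
  let lift : Matrix {k : Fin n // k ≠ i} {k : Fin n // k ≠ i} F → Matrix (Fin n) (Fin n) F :=
    fun h => Matrix.reindex e e (Matrix.fromBlocks h 0 0 1)
  have hdet : ∀ h, (lift h).det = h.det := fun h => by
    simp only [lift, Matrix.det_reindex_self, Matrix.det_fromBlocks_zero₂₁, Matrix.det_one, mul_one]
  have hlmul : ∀ h h', lift h * lift h' = lift (h * h') := fun h h' => by
    simp only [lift, Matrix.reindex_apply, Matrix.submatrix_mul_equiv, Matrix.fromBlocks_multiply]
    simp
  -- the column part
  let w : Fin n → F := fun k => if k = i then 0 else g k i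
  let C : Finset (Fin n) → Matrix (Fin n) (Fin n) F := fun s => 1 + ∑ k ∈ s, Matrix.single k i (w k)
  have hC : ∀ s, i ∉ s → ∃ c : GL (Fin n) F, c.1 = C s ∧ P c := by
    intro s
    induction s using Finset.induction_on with
    | empty => exact fun _ => ⟨1, by simp [C], h1⟩
    | @insert a s ha ih =>
      intro hi
      simp only [Finset.mem_insert, not_or] at hi
      obtain ⟨c, hc, hPc⟩ := ih hi.2
      have hai : a ≠ i := Ne.symm hi.1
      refine ⟨trEl a i hai (w a) * c, ?_, hmul _ _ (htr a i hai hai _) hPc⟩
      rw [Units.val_mul, hc, coe_trEl]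
      simp only [C, Finset.sum_insert ha, mul_add, add_mul, one_mul, mul_one, Finset.mul_sum]
      rw [Finset.sum_add_distrib, Finset.sum_eq_zero (f := fun k => Matrix.single a i (w a) * Matrix.single k i (w k))
        (fun k hk => Matrix.single_mul_single_of_ne _ _ _ _ (fun h : i = k => hi.2 (h ▸ hk)) _)]
      abel
  obtain ⟨c, hc, hPc⟩ := hC (Finset.univ.erase i) (by simp)
  let h0 : Matrix {k : Fin n // k ≠ i} {k : Fin n // k ≠ i} F := Matrix.of fun a b => g a.1 b.1
  have hfac : (g : Matrix (Fin n) (Fin n) F) = c.1 * lift h0 := by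
    rw [hc]
    have hlast : ∀ b, lift h0 i b = if b = i then 1 else 0 := by
      intro b
      by_cases hb : b = i <;> simp [lift, e, hb, Matrix.one_apply, Equiv.sumCompl]
    ext a b
    simp only [C, add_mul, one_mul, Matrix.add_apply, Finset.sum_mul, Matrix.sum_apply]
    by_cases ha : a = i
    · subst ha
      rw [Finset.sum_eq_zero fun k hk => Matrix.single_mul_apply_of_ne _ _ _ _ _ (Ne.symm (Finset.ne_of_mem_erase hk)) _,
        add_zero, hlast, hg]
    · rw [Finset.sum_eq_single a (fun k _ hka => Matrix.single_mul_apply_of_ne _ _ _ _ _ (Ne.symm hka) _)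
        (fun h => absurd (Finset.mem_erase.mpr ⟨ha, Finset.mem_univ a⟩) h), Matrix.single_mul_apply_same, hlast]
      by_cases hb : b = i
      · subst hb; simp [lift, e, ha, w, Equiv.sumCompl]
      · simp [lift, e, ha, hb, h0, Equiv.sumCompl]
  have hh0 : h0.det ≠ 0 := by
    intro h
    have hz := congrArg Matrix.det hfac
    rw [Matrix.det_mul, hdet, h, mul_zero] at hz
    exact (g.isUnit.map Matrix.detMonoidHom).ne_zero hz
  have hP : ∀ g' : GL (Fin n) F, g'.1 = lift h0 → P g' := by
    refine diagonal_transvection_induction_of_det_ne_zero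
      (fun h => ∀ g' : GL (Fin n) F, g'.1 = lift h → P g') h0 hh0 ?_ ?_ ?_
    · intro D _ g' hg'
      refine diagonal_generated P h1 hmul (Finset.univ.erase i) (fun k hk => hd k (Finset.ne_of_mem_erase hk))
        (fun k => if h : k = i then 1 else D ⟨k, h⟩) (fun k hk => ?_) g' ?_
      · simp only [Finset.mem_erase, Finset.mem_univ, and_true, not_not] at hk
        simp [hk]
      · rw [hg']
        ext a b
        by_cases ha : a = i <;> by_cases hb : b = i <;>
          simp [lift, e, ha, hb, Equiv.sumCompl, Matrix.diagonal_apply, Matrix.one_apply, Ne.symm]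
    · intro t g' hg'
      have hne : t.i.1 ≠ t.j.1 := fun h => t.hij (Subtype.ext h)
      have : g' = trEl t.i.1 t.j.1 hne t.c := Units.ext (by
        rw [hg', coe_trEl]
        ext a b
        by_cases ha : a = i <;> by_cases hb : b = i <;>
          simp [lift, e, ha, hb, Equiv.sumCompl, TransvectionStruct.toMatrix, Matrix.transvection,
            Matrix.one_apply, Matrix.single_apply, t.i.2, t.j.2, Subtype.ext_iff, Ne.symm])
      rw [this]; exact htr _ _ t.i.2 _ _
    · intro A B hA hB ihA ihB g' hg'
      have : g' = GeneralLinearGroup.mkOfDetNeZero (lift A) (by rwa [hdet]) *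
          GeneralLinearGroup.mkOfDetNeZero (lift B) (by rwa [hdet]) := Units.ext (by
        rw [hg']; exact (hlmul A B).symm)
      rw [this]
      exact hmul _ _ (ihA _ rfl) (ihB _ rfl)
  have : g = c * (c⁻¹ * g) := by rw [mul_inv_cancel_left]
  rw [this]
  refine hmul _ _ hPc (hP _ ?_)
  rw [Units.val_mul, hfac, ← mul_assoc, ← Units.val_mul, inv_mul_cancel, Units.val_one, one_mul]

end CfsgLib.WeilRankOne
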