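import Cfsg.Agent.WeilRankOne.Elements

/-!
# Weight spaces of the Siegel radical; weights of rank one
-/

set_option autoImplicit false

namespace CfsgLib.WeilRankOne

open Matrix CfsgLib.RepBounds Module

variable {n : ℕ} {F : Type*} [Field F]

/-- The functional `S ↦ c vᵀ S v`. -/
def dualVec (c : F) (v : Fin n → F) : Module.Dual F (symMat n F) where
  toFun S := c * (v ⬝ᵥ S.1 *ᵥ v)
  map_add' S T := by simp [Matrix.add_mulVec, mul_add]
  map_smul' a S := by simp [Matrix.smul_mulVec, mul_left_comm]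

/-- The weight of rank one attached to `c` and `v`. -/
def wt (ψ : AddChar F ℂ) (c : F) (v : Fin n → F) : AddChar (symMat n F) ℂ :=
  ψ.compAddMonoidHom (dualVec c v).toAddMonoidHom

variable (ψ : AddChar F ℂ)

theorem wt_apply (c : F) (v : Fin n → F) (S : symMat n F) :
    wt ψ c v S = ψ (c * (v ⬝ᵥ S.1 *ᵥ v)) := rfl

theorem wt_smul (c r : F) (v : Fin n → F) : wt ψ c (r • v) = wt ψ (c * r ^ 2) v := by
  ext S
  simp [wt_apply, Matrix.mulVec_smul, smul_dotProduct, dotProduct_smul, smul_eq_mul]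
  ring_nf

theorem wt_neg (c : F) (v : Fin n → F) : wt ψ c (-v) = wt ψ c v := by
  ext S; simp [wt_apply, Matrix.mulVec_neg]

theorem wt_zero_vec (c : F) : wt ψ c (0 : Fin n → F) = 0 := by
  ext S; simp [wt_apply]

theorem wt_zero_coef (v : Fin n → F) : wt ψ 0 v = 0 := by
  ext S; simp [wt_apply]

theorem wt_comp_congr (c : F) (v : Fin n → F) (g : GL (Fin n) F) :
    (wt ψ c v).compAddMonoidHom (congrSym g).toAddMonoidHom =
      wt ψ c ((g : Matrix (Fin n) (Fin n) F)ᵀ *ᵥ v) := by
  ext S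
  simp only [AddChar.compAddMonoidHom_apply, AddEquiv.coe_toAddMonoidHom, wt_apply]
  congr 2
  show v ⬝ᵥ ((g : Matrix (Fin n) (Fin n) F) * S.1 * (g : Matrix (Fin n) (Fin n) F)ᵀ) *ᵥ v = _
  rw [← Matrix.mulVec_mulVec, ← Matrix.mulVec_mulVec, Matrix.dotProduct_mulVec, ← Matrix.mulVec_transpose]

theorem dSym_value (c : F) (v : Fin n → F) (j : Fin n) (t : F) :
    c * (v ⬝ᵥ (dSym j t).1 *ᵥ v) = t * (c * v j * v j) := by
  simp [coe_dSym, Matrix.single_mulVec, dotProduct, Function.update_apply]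
  ring

theorem offSym_value (c : F) (v : Fin n → F) (i j : Fin n) (t : F) :
    c * (v ⬝ᵥ (offSym i j t).1 *ᵥ v) = t * (2 * (c * v i * v j)) := by
  simp [coe_offSym, Matrix.add_mulVec, Matrix.single_mulVec, dotProduct, Function.update_apply,
    Finset.sum_add_distrib, mul_add]
  ring

variable {ψ}

theorem coef_eq_of_forall (hψ : AddChar.IsPrimitive ψ) {a b : F} (h : ∀ t, ψ (t * a) = ψ (t * b)) :
    a = b := by
  refine AddChar.to_mulShift_inj_of_isPrimitive hψ (DFunLike.ext _ _ fun t => ?_)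
  rw [AddChar.mulShift_apply, AddChar.mulShift_apply, mul_comm a, mul_comm b]
  exact h t

/-- A rank-one weight determines the products of its coordinates. -/
theorem wt_entry (hψ : AddChar.IsPrimitive ψ) (h2 : (2 : F) ≠ 0) {c c' : F} {v v' : Fin n → F}
    (h : wt ψ c v = wt ψ c' v') (k l : Fin n) : c * v k * v l = c' * v' k * v' l := by
  by_cases hkl : k = l
  · subst hkl
    refine coef_eq_of_forall hψ fun t => ?_
    rw [← dSym_value c v, ← dSym_value c' v', ← wt_apply, ← wt_apply, h]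
  · refine mul_left_cancel₀ h2 (coef_eq_of_forall hψ fun t => ?_)
    rw [← offSym_value c v, ← offSym_value c' v', ← wt_apply, ← wt_apply, h]

theorem wt_ne_zero (hψ : AddChar.IsPrimitive ψ) (h2 : (2 : F) ≠ 0) {c : F} (hc : c ≠ 0)
    {v : Fin n → F} (hv : v ≠ 0) : wt ψ c v ≠ 0 := fun h => by
  obtain ⟨k, hk⟩ := Function.ne_iff.mp hv
  have := wt_entry hψ h2 (h.trans (wt_zero_coef ψ v).symm) k k
  simp only [zero_mul] at this
  exact mul_ne_zero (mul_ne_zero hc hk) hk this

/-- Weights with the same coefficient: the vectors agree up to sign. -/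
theorem wt_eq_iff (hψ : AddChar.IsPrimitive ψ) (h2 : (2 : F) ≠ 0) {c : F} (hc : c ≠ 0)
    {v v' : Fin n → F} : wt ψ c v = wt ψ c v' ↔ v' = v ∨ v' = -v := by
  constructor
  · intro h
    have he : ∀ k l, v k * v l = v' k * v' l := fun k l =>
      mul_left_cancel₀ hc (by rw [← mul_assoc, ← mul_assoc]; exact wt_entry hψ h2 h k l)
    by_cases hv : v = 0
    · subst hv
      left
      funext k
      have := he k k
      simp only [Pi.zero_apply, mul_zero] at this
      simpa using this.symm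
    obtain ⟨k, hk⟩ := Function.ne_iff.mp hv
    rcases mul_self_eq_mul_self_iff.mp (he k k).symm with h1 | h1
    · left
      funext l
      have := he k l
      rw [h1] at this
      exact (mul_left_cancel₀ hk this).symm
    · right
      funext l
      have := he k l
      rw [h1] at this
      have h' : v k * v l = v k * (-(v' l)) := by linear_combination this
      rw [Pi.neg_apply, mul_left_cancel₀ hk h', neg_neg]
  · rintro (rfl | rfl)
    · rfl
    · exact (wt_neg ψ c v).symm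

variable {V : Type*} [AddCommGroup V] [Module ℂ V]
  (ρ : Representation ℂ (Matrix.symplecticGroup (Fin n) F) V)

/-- The weight space. -/
def wsp (χ : AddChar (symMat n F) ℂ) : Submodule ℂ V where
  carrier := {x | ∀ S, ρ (siegelU S) x = χ S • x}
  add_mem' hx hy S := by rw [map_add, hx S, hy S, smul_add]
  zero_mem' S := by simp
  smul_mem' a x hx S := by rw [map_smul, hx S, smul_comm]

theorem mem_wsp {χ : AddChar (symMat n F) ℂ} {x : V} :
    x ∈ wsp ρ χ ↔ ∀ S, ρ (siegelU S) x = χ S • x := Iff.rfl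

theorem leviHom_siegelU (g : GL (Fin n) F) (S : symMat n F) :
    leviHom g * siegelU S = siegelU (congrSym g S) * leviHom g := by
  rw [← leviEl_conj, ← leviHom_apply, inv_mul_cancel_right]

theorem siegelU_leviHom (g : GL (Fin n) F) (S : symMat n F) :
    siegelU S * leviHom g = leviHom g * siegelU (congrSym g⁻¹ S) := by
  have h := leviHom_siegelU g⁻¹ S
  rw [map_inv] at h
  calc siegelU S * leviHom g = leviHom g * ((leviHom g)⁻¹ * siegelU S) * leviHom g := by
        rw [mul_inv_cancel_left]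
    _ = leviHom g * (siegelU (congrSym g⁻¹ S) * (leviHom g)⁻¹) * leviHom g := by rw [h]
    _ = _ := by rw [mul_assoc, mul_assoc, inv_mul_cancel, mul_one]

theorem leviHom_mem_wsp (g : GL (Fin n) F) {χ : AddChar (symMat n F) ℂ} {x : V} (hx : x ∈ wsp ρ χ) :
    ρ (leviHom g) x ∈ wsp ρ (χ.compAddMonoidHom (congrSym g⁻¹).toAddMonoidHom) := fun S => by
  rw [← Module.End.mul_apply, ← map_mul, siegelU_leviHom, map_mul, Module.End.mul_apply, hx, map_smul]
  rfl

theorem leviHom_mem_wt (g : GL (Fin n) F) {c : F} {v : Fin n → F} {x : V} (hx : x ∈ wsp ρ (wt ψ c v)) :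
    ρ (leviHom g) x ∈ wsp ρ (wt ψ c (((g⁻¹ : GL (Fin n) F) : Matrix (Fin n) (Fin n) F)ᵀ *ᵥ v)) := by
  rw [← wt_comp_congr]
  exact leviHom_mem_wsp ρ g hx

/-- All weights have rank at most one. -/
def RankOne (ψ : AddChar F ℂ) : Prop :=
  ∀ χ : AddChar (symMat n F) ℂ, ∀ x ∈ wsp ρ χ, x ≠ 0 → ∃ c v, χ = wt ψ c v

section proj

variable [Fintype F] [FiniteDimensional ℂ V]

/-- The projector onto a weight space. -/
noncomputable def wproj (χ : AddChar (symMat n F) ℂ) : End ℂ V := proj (resChar ρ siegelU) χ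

theorem wproj_mem (χ : AddChar (symMat n F) ℂ) (x : V) : wproj ρ χ x ∈ wsp ρ χ := fun S => by
  have := LinearMap.congr_fun (map_mul_proj (resChar ρ siegelU) χ S) x
  simpa [wproj, resChar_apply] using this

theorem wproj_comm (χ : AddChar (symMat n F) ℂ) (S : symMat n F) :
    wproj ρ χ * ρ (siegelU S) = ρ (siegelU S) * wproj ρ χ := by
  simp only [wproj, proj, mul_smul_comm, smul_mul_assoc, Finset.mul_sum, Finset.sum_mul, resChar_apply,
    ← map_mul ρ, ← AddChar.map_add_eq_mul, add_comm S]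

theorem wproj_of_mem {χ : AddChar (symMat n F) ℂ} {x : V} (hx : x ∈ wsp ρ χ) : wproj ρ χ x = x := by
  simp only [wproj, proj, LinearMap.smul_apply, LinearMap.sum_apply, resChar_apply, hx _, smul_smul,
    ← AddChar.map_add_eq_mul, neg_add_cancel, AddChar.map_zero_eq_one, one_smul, Finset.sum_const,
    Finset.card_univ]
  rw [← Nat.cast_smul_eq_nsmul ℂ, smul_smul, inv_mul_cancel₀ (Nat.cast_ne_zero.mpr Fintype.card_ne_zero),
    one_smul]

theorem wproj_eq_zero {χ : AddChar (symMat n F) ℂ} {x : V} {S : symMat n F} {μ : ℂ}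
    (hx : ρ (siegelU S) x = μ • x) (hne : χ S ≠ μ) : wproj ρ χ x = 0 := by
  have h1 := wproj_mem ρ χ x S
  rw [← Module.End.mul_apply, ← wproj_comm, Module.End.mul_apply, hx, map_smul] at h1
  by_contra h0
  exact hne (smul_left_injective ℂ h0 h1).symm

theorem wproj_of_mem_ne {χ χ' : AddChar (symMat n F) ℂ} {x : V} (hx : x ∈ wsp ρ χ) (hne : χ ≠ χ') :
    wproj ρ χ' x = 0 := by
  obtain ⟨S, hS⟩ := DFunLike.ne_iff.mp hne
  exact wproj_eq_zero ρ (hx S) hS.symm

theorem eq_of_mem_wsp {χ χ' : AddChar (symMat n F) ℂ} {x : V} (hx : x ∈ wsp ρ χ) (hx' : x ∈ wsp ρ χ')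
    (h0 : x ≠ 0) : χ = χ' := by
  by_contra hne
  exact h0 ((wproj_of_mem ρ hx').symm.trans (wproj_of_mem_ne ρ hx hne))

theorem sum_wproj (x : V) : ∑ χ, wproj ρ χ x = x := by
  have := LinearMap.congr_fun (sum_proj (resChar ρ siegelU)) x
  simpa [wproj] using this

theorem mem_of_wproj (W : Submodule ℂ V) {x : V} (h : ∀ χ, wproj ρ χ x ∈ W) : x ∈ W := by
  rw [← sum_wproj ρ x]
  exact W.sum_mem fun χ _ => h χ

theorem leviHom_wproj (g : GL (Fin n) F) (χ : AddChar (symMat n F) ℂ) (x : V) :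
    ρ (leviHom g) (wproj ρ χ x) =
      wproj ρ (χ.compAddMonoidHom (congrSym g⁻¹).toAddMonoidHom) (ρ (leviHom g) x) := by
  simp only [wproj, proj, LinearMap.smul_apply, LinearMap.sum_apply, resChar_apply, map_smul, map_sum]
  congr 1
  refine Fintype.sum_equiv (congrSym g).toEquiv _ _ fun S => ?_
  simp only [AddEquiv.toEquiv_eq_coe, EquivLike.coe_coe, AddChar.compAddMonoidHom_apply,
    AddEquiv.coe_toAddMonoidHom, map_neg]
  rw [← Module.End.mul_apply, ← map_mul, leviHom_siegelU, map_mul, Module.End.mul_apply]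
  congr 2
  refine congrArg Neg.neg (Subtype.ext ?_)
  show S.1 = (g⁻¹ : GL (Fin n) F).1 * ((g : Matrix (Fin n) (Fin n) F) * S.1 * (g : Matrix (Fin n) (Fin n) F)ᵀ) * (g⁻¹ : GL (Fin n) F).1ᵀ
  rw [← mul_assoc, ← mul_assoc, ← Units.val_mul, inv_mul_cancel, Units.val_one, one_mul, mul_assoc,
    ← Matrix.transpose_mul, ← Units.val_mul, inv_mul_cancel, Units.val_one, Matrix.transpose_one, mul_one]

end proj

section shape

variable {ρ}

/-- Fixed by the part of the radical missing row `j`. -/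
def Fix (ρ : Representation ℂ (Matrix.symplecticGroup (Fin n) F) V) (j : Fin n) (x : V) : Prop :=
  ∀ S : symMat n F, (∀ k, S.1 j k = 0) → ρ (siegelU S) x = x

/-- The block of the coordinates `i` and `j`. -/
def Blk (ρ : Representation ℂ (Matrix.symplecticGroup (Fin n) F) V) (ψ : AddChar F ℂ) (i j : Fin n) (c : F)
    (x : V) : Prop :=
  ∀ S : symMat n F, (∀ k, S.1 j k = 0) → ρ (siegelU S) x = ψ (c * S.1 i i) • x

theorem blk_shape (hψ : AddChar.IsPrimitive ψ) (hR : RankOne ρ ψ) {i j : Fin n} (hij : i ≠ j) {c : F}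
    (hc : c ≠ 0) {χ : AddChar (symMat n F) ℂ} {x : V} (hx : x ∈ wsp ρ χ) (h0 : x ≠ 0)
    (hb : Blk ρ ψ i j c x) : ∃ y : F, χ = wt ψ c (Pi.single i 1 + y • Pi.single j 1) := by
  obtain ⟨c', v, rfl⟩ := hR χ x hx h0
  have hk : ∀ k, k ≠ j → c' * v k * v k = if k = i then c else 0 := fun k hk => by
    refine coef_eq_of_forall hψ fun t => ?_
    rw [← dSym_value c' v, ← wt_apply]
    have h1 := (hx (dSym k t)).symm.trans (hb (dSym k t) fun l => by
      simp [coe_dSym, hk])
    refine (smul_left_injective ℂ h0 h1).trans ?_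
    congr 1
    rw [coe_dSym]
    rcases eq_or_ne k i with rfl | hki
    · simp [mul_comm]
    · simp [hki, Matrix.single_apply]
  have hi := hk i hij
  rw [if_pos rfl] at hi
  have hvi : v i ≠ 0 := fun h => hc (by rw [← hi, h, mul_zero])
  have hc' : c' ≠ 0 := fun h => hc (by rw [← hi, h, zero_mul, zero_mul])
  have hv : v = v i • (Pi.single i 1 + (v j / v i) • Pi.single j 1) := by
    funext k
    rcases eq_or_ne k i with rfl | hki
    · simp [hij]
    rcases eq_or_ne k j with rfl | hkj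
    · simp [hki, mul_div_cancel₀ _ hvi]
    · have h := hk k hkj
      rw [if_neg hki, mul_assoc, mul_eq_zero, mul_self_eq_zero] at h
      simp [hki, hkj, h.resolve_left hc']
  refine ⟨v j / v i, ?_⟩
  conv_lhs => rw [hv]
  rw [wt_smul, ← hi]
  congr 1
  ring

theorem fix_shape (hψ : AddChar.IsPrimitive ψ) (hR : RankOne ρ ψ) {j : Fin n} {χ : AddChar (symMat n F) ℂ}
    {x : V} (hx : x ∈ wsp ρ χ) (h0 : x ≠ 0) (hb : Fix ρ j x) : ∃ c, χ = wt ψ c (Pi.single j 1) := by
  obtain ⟨c', v, rfl⟩ := hR χ x hx h0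
  rcases eq_or_ne c' 0 with rfl | hc'
  · exact ⟨0, by rw [wt_zero_coef, wt_zero_coef]⟩
  have hk : ∀ k, k ≠ j → v k = 0 := fun k hk => by
    have h : c' * v k * v k = 0 := by
      refine coef_eq_of_forall hψ fun t => ?_
      rw [← dSym_value c' v, ← wt_apply, mul_zero, AddChar.map_zero_eq_one]
      have h1 := (hx (dSym k t)).symm.trans (hb (dSym k t) fun l => by simp [coe_dSym, hk])
      exact smul_left_injective ℂ h0 (h1.trans (one_smul ℂ x).symm)
    simpa [hc'] using h
  refine ⟨c' * v j ^ 2, ?_⟩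
  rw [← wt_smul]
  congr 1
  funext k
  rcases eq_or_ne k j with rfl | hkj
  · simp
  · simp [hk k hkj, hkj]

end shape

end CfsgLib.WeilRankOne
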