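import Cfsg.Agent.WeilRankOne.Block
import Cfsg.Agent.WeilRankOne.Generators

/-!
# The small subrepresentation through a vector of rank-one weight

If all weights have rank at most one and `m` has weight `(e_i, c)`, is an eigenvector of `-1`, then the span of
the Levi translates of `m` and one vector fixed by the radical is invariant under the group; its dimension is at
most `(q^n - 1)/2 + 1`.
-/

set_option autoImplicit false

namespace CfsgLib.WeilRankOne

open Matrix CfsgLib.RepBounds Module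

variable {n : ℕ} {F : Type*} [Field F] [Fintype F] {ψ : AddChar F ℂ}
variable {V : Type*} [AddCommGroup V] [Module ℂ V] [FiniteDimensional ℂ V]
variable {ρ : Representation ℂ (Matrix.symplecticGroup (Fin n) F) V}

/-- The weights of rank one with coefficient `c`. -/
noncomputable def wtSet (ψ : AddChar F ℂ) (n : ℕ) (c : F) : Finset (AddChar (symMat n F) ℂ) :=
  open Classical in (Finset.univ.filter fun v : Fin n → F => v ≠ 0).image (wt ψ c)

theorem mem_wtSet {c : F} {χ : AddChar (symMat n F) ℂ} :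
    χ ∈ wtSet ψ n c ↔ ∃ v : Fin n → F, v ≠ 0 ∧ wt ψ c v = χ := by
  simp [wtSet]

theorem two_mul_card_wtSet (hψ : AddChar.IsPrimitive ψ) (h2 : (2 : F) ≠ 0) {c : F} (hc : c ≠ 0) :
    2 * (wtSet ψ n c).card = Fintype.card F ^ n - 1 := by
  classical
  set s := Finset.univ.filter fun v : Fin n → F => v ≠ 0 with hs
  have hcard : s.card = Fintype.card F ^ n - 1 := by
    rw [hs, Finset.filter_ne', Finset.card_erase_of_mem (Finset.mem_univ _), Finset.card_univ, Fintype.card_fun,
      Fintype.card_fin]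
  rw [← hcard, Finset.card_eq_sum_card_image (wt ψ c) s, show s.image (wt ψ c) = wtSet ψ n c by
    rw [hs, wtSet]]
  rw [Finset.sum_const_nat (m := 2), mul_comm]
  intro χ hχ
  obtain ⟨v, hv, rfl⟩ := mem_wtSet.mp hχ
  rw [show s.filter (fun u => wt ψ c u = wt ψ c v) = {v, -v} by
    ext u
    rw [Finset.mem_filter, hs, Finset.mem_filter, Finset.mem_insert, Finset.mem_singleton, eq_comm,
      wt_eq_iff hψ h2 hc]
    refine ⟨fun h => h.2, fun h => ⟨⟨Finset.mem_univ _, ?_⟩, h⟩⟩
    rcases h with rfl | rfl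
    · exact hv
    · exact neg_ne_zero.mpr hv]
  rw [Finset.card_pair]
  intro h
  obtain ⟨k, hk⟩ := Function.ne_iff.mp hv
  have h' := congrFun h k
  rw [Pi.neg_apply, eq_neg_iff_add_eq_zero, ← two_mul] at h'
  exact hk ((mul_eq_zero.mp h').resolve_left h2)

/-- The vector of the weight of a translate of a vector of weight `e_i`. -/
def vecOf (i : Fin n) (g : GL (Fin n) F) : Fin n → F :=
  ((g⁻¹ : GL (Fin n) F) : Matrix (Fin n) (Fin n) F)ᵀ *ᵥ Pi.single i 1

omit [Fintype F] in
theorem vecOf_ne_zero (i : Fin n) (g : GL (Fin n) F) : vecOf i g ≠ 0 := fun h => by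
  have := congrArg (fun v => (g : Matrix (Fin n) (Fin n) F)ᵀ *ᵥ v) h
  simp only [vecOf, Matrix.mulVec_mulVec, ← Matrix.transpose_mul, ← Units.val_mul, inv_mul_cancel,
    Units.val_one, Matrix.transpose_one, Matrix.one_mulVec, Matrix.mulVec_zero] at this
  exact one_ne_zero (Pi.single_eq_zero_iff.mp this)

omit [Fintype F] in
theorem vecOf_mul (i : Fin n) (g h : GL (Fin n) F) :
    vecOf i (g * h) = ((g⁻¹ : GL (Fin n) F) : Matrix (Fin n) (Fin n) F)ᵀ *ᵥ vecOf i h := by
  rw [vecOf, vecOf, Matrix.mulVec_mulVec, ← Matrix.transpose_mul, ← Units.val_mul, ← _root_.mul_inv_rev]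

omit [Fintype F] in
theorem exists_vecOf (i : Fin n) {v : Fin n → F} (hv : v ≠ 0) : ∃ g : GL (Fin n) F, vecOf i g = v := by
  obtain ⟨g, hg, -⟩ := exists_gl i v hv
  exact ⟨dualGL g, by rw [vecOf, coe_dualGL_inv, Matrix.transpose_transpose, hg]⟩

/-- The lower bound: a rank-one weight brings its whole orbit. -/
theorem card_wtSet_le {i : Fin n} {c : F} {m : V} (hm : m ∈ wsp ρ (wt ψ c (Pi.single i 1))) (hm0 : m ≠ 0) :
    (wtSet ψ n c).card ≤ finrank ℂ V := by
  have h := card_mul_le_finrank (resChar ρ siegelU) (wtSet ψ n c) 1 fun χ hχ => by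
    obtain ⟨v, hv, rfl⟩ := mem_wtSet.mp hχ
    obtain ⟨g, hg⟩ := exists_vecOf i hv
    have h1 := leviHom_mem_wt (ψ := ψ) ρ g hm
    rw [show ((g⁻¹ : GL (Fin n) F) : Matrix (Fin n) (Fin n) F)ᵀ *ᵥ Pi.single i 1 = v from hg] at h1
    have h2 : ρ (leviHom g) m ∈ LinearMap.range (proj (resChar ρ siegelU) (wt ψ c v)) :=
      ⟨_, wproj_of_mem ρ h1⟩
    have h0 : ρ (leviHom g) m ≠ 0 := fun h0 => hm0 (by
      rw [← rho_inv_apply (ρ := ρ) (leviHom g) m, h0, map_zero])
    rw [Nat.one_le_iff_ne_zero, mult, ne_eq, Submodule.finrank_eq_zero]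
    intro hbot
    rw [hbot, Submodule.mem_bot] at h2
    exact h0 h2
  rwa [mul_one] at h

variable (hψ : AddChar.IsPrimitive ψ) (h2 : (2 : F) ≠ 0) (hR : RankOne ρ ψ)
include hψ h2 hR

/-- Translates with the same weight are proportional. -/
theorem line_of_vecOf {i : Fin n} {c : F} (hc : c ≠ 0) {m : V} (hm : m ∈ wsp ρ (wt ψ c (Pi.single i 1)))
    (hneg : ρ (leviHom (-1)) m ∈ ℂ ∙ m) {g g' : GL (Fin n) F}
    (h : vecOf i g = vecOf i g' ∨ vecOf i g = -vecOf i g') :
    ρ (leviHom g) m ∈ ℂ ∙ ρ (leviHom g') m := by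
  have hmul : ∀ a b : GL (Fin n) F, ρ (leviHom a) m ∈ ℂ ∙ m → ρ (leviHom b) m ∈ ℂ ∙ m →
      ρ (leviHom (a * b)) m ∈ ℂ ∙ m := by
    intro a b ha hb
    obtain ⟨r, hr⟩ := Submodule.mem_span_singleton.mp hb
    rw [map_mul, rho_mul_apply, ← hr, map_smul]
    exact Submodule.smul_mem _ _ ha
  have hst : ∀ h' : GL (Fin n) F, (∀ k, (h' : Matrix (Fin n) (Fin n) F) i k = if k = i then 1 else 0) →
      ρ (leviHom h') m ∈ ℂ ∙ m := by
    refine stab_induction i (fun h' => ρ (leviHom h') m ∈ ℂ ∙ m) ?_ hmul ?_ ?_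
    · simp only [map_one, Module.End.one_apply]
      exact Submodule.mem_span_singleton_self m
    · intro k l hk hkl x
      rw [trEl_trivial hψ h2 hR hk hkl hc x hm]
      exact Submodule.mem_span_singleton_self m
    · intro k hk t
      obtain ⟨μ, hμ⟩ := dgEl_scalar hψ h2 hR hk.symm hc t
      rw [hμ m hm]
      exact Submodule.smul_mem _ _ (Submodule.mem_span_singleton_self m)
  set k := g'⁻¹ * g with hk
  have hrow : ∀ l, ((k⁻¹ : GL (Fin n) F) : Matrix (Fin n) (Fin n) F) i l = vecOf i k l := fun l => by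
    simp [vecOf, Matrix.mulVec_single_one, Matrix.col_apply]
  have hv : vecOf i k = Pi.single i 1 ∨ vecOf i k = -Pi.single i 1 := by
    have e1 : (g' : Matrix (Fin n) (Fin n) F)ᵀ *ᵥ vecOf i g' = Pi.single i 1 := by
      rw [vecOf, Matrix.mulVec_mulVec, ← Matrix.transpose_mul, ← Units.val_mul, inv_mul_cancel, Units.val_one,
        Matrix.transpose_one, Matrix.one_mulVec]
    rcases h with h | h
    · left; rw [hk, vecOf_mul, inv_inv, h, e1]
    · right; rw [hk, vecOf_mul, inv_inv, h, Matrix.mulVec_neg, e1]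
  have hki : ρ (leviHom k⁻¹) m ∈ ℂ ∙ m := by
    rcases hv with hv | hv
    · exact hst _ fun l => by rw [hrow, hv, Pi.single_apply]
    · have := hmul (-1) (-1 * k⁻¹) hneg (hst _ fun l => by
        rw [Units.val_mul, Units.val_neg, Units.val_one, neg_mul, one_mul, Matrix.neg_apply, hrow, hv,
          Pi.neg_apply, neg_neg, Pi.single_apply])
      rwa [← mul_assoc, neg_one_mul, neg_neg, one_mul] at this
  obtain ⟨r, hr⟩ := Submodule.mem_span_singleton.mp hki
  have hkm : ρ (leviHom k) m ∈ ℂ ∙ m := by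
    have e : m = r • ρ (leviHom k) m := by
      rw [← map_smul, hr, ← rho_mul_apply, ← map_mul, mul_inv_cancel, map_one, map_one]
      rfl
    refine Submodule.mem_span_singleton.mpr ⟨r⁻¹, ?_⟩
    rcases eq_or_ne r 0 with rfl | hr0
    · rw [zero_smul] at e; simp [e]
    · conv_lhs => rw [e, smul_smul, inv_mul_cancel₀ hr0, one_smul]
  obtain ⟨s, hs⟩ := Submodule.mem_span_singleton.mp hkm
  refine Submodule.mem_span_singleton.mpr ⟨s, ?_⟩
  rw [← map_smul, hs, ← rho_mul_apply, ← map_mul, hk, mul_inv_cancel_left]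

/-- The main construction. -/
theorem exists_small (hn : 2 ≤ n) {i : Fin n} {c : F} (hc : c ≠ 0) {m : V}
    (hm : m ∈ wsp ρ (wt ψ c (Pi.single i 1))) (hneg : ρ (leviHom (-1)) m ∈ ℂ ∙ m) :
    ∃ U : Submodule ℂ V, (∀ g, ∀ x ∈ U, ρ g x ∈ U) ∧ m ∈ U ∧ finrank ℂ U ≤ (wtSet ψ n c).card + 1 ∧
      ∀ χ, χ ≠ 0 → ∀ x ∈ U, wproj ρ χ x ≠ 0 → χ ∈ wtSet ψ n c := by
  classical
  obtain ⟨a, hai⟩ : ∃ a : Fin n, a ≠ i := by
    have : Nontrivial (Fin n) := Fin.nontrivial_iff_two_le.mpr hn
    exact exists_ne i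
  set f : GL (Fin n) F → V := fun g => ρ (leviHom g) m with hf
  set U0 := Submodule.span ℂ (Set.range f) with hU0
  have hgen : ∀ g, f g ∈ U0 := fun g => Submodule.subset_span ⟨g, rfl⟩
  have hfwt : ∀ g, f g ∈ wsp ρ (wt ψ c (vecOf i g)) := fun g => leviHom_mem_wt (ψ := ψ) ρ g hm
  have hU0L : ∀ g, ∀ x ∈ U0, ρ (leviHom g) x ∈ U0 := by
    intro g x hx
    induction hx using Submodule.span_induction with
    | mem v hv =>
      obtain ⟨h, rfl⟩ := hv
      have : ρ (leviHom g) (f h) = f (g * h) := by simp only [hf, map_mul, Module.End.mul_apply]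
      rw [this]; exact hgen _
    | zero => rw [map_zero]; exact Submodule.zero_mem _
    | add v w _ _ hv hw => rw [map_add]; exact Submodule.add_mem _ hv hw
    | smul r v _ hv => rw [map_smul]; exact Submodule.smul_mem _ _ hv
  have hU0P : ∀ χ, ∀ x ∈ U0, wproj ρ χ x ∈ U0 ∧ (wproj ρ χ x ≠ 0 → χ ∈ wtSet ψ n c) := by
    intro χ x hx
    induction hx using Submodule.span_induction with
    | mem v hv =>
      obtain ⟨h, rfl⟩ := hv
      by_cases he : wt ψ c (vecOf i h) = χ
      · subst he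
        exact ⟨by rw [wproj_of_mem ρ (hfwt h)]; exact hgen h,
          fun _ => mem_wtSet.mpr ⟨_, vecOf_ne_zero i h, rfl⟩⟩
      · rw [wproj_of_mem_ne ρ (hfwt h) he]
        exact ⟨Submodule.zero_mem _, fun h0 => absurd rfl h0⟩
    | zero => rw [map_zero]; exact ⟨Submodule.zero_mem _, fun h0 => absurd rfl h0⟩
    | add v w _ _ hv hw =>
      rw [map_add]
      refine ⟨Submodule.add_mem _ hv.1 hw.1, fun h0 => ?_⟩
      by_contra hχ
      have e1 : wproj ρ χ v = 0 := by_contra fun h => hχ (hv.2 h)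
      have e2 : wproj ρ χ w = 0 := by_contra fun h => hχ (hw.2 h)
      rw [e1, e2, add_zero] at h0
      exact h0 rfl
    | smul r v _ hv =>
      rw [map_smul]
      exact ⟨Submodule.smul_mem _ _ hv.1, fun h0 => hv.2 fun h => h0 (by rw [h, smul_zero])⟩
  -- translates with a coordinate outside `j` stay in `U0` under `w_j`
  have hoff : ∀ j g, (∃ k, k ≠ j ∧ vecOf i g k ≠ 0) → ρ (wEl j) (f g) ∈ U0 := by
    rintro j g ⟨k, hkj, hk⟩
    set v := vecOf i g with hv
    set v' : Fin n → F := Function.update v j 0 with hv'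
    have hv'0 : v' ≠ 0 := fun h => hk (by
      have := congrFun h k; rwa [hv', Function.update_of_ne hkj] at this)
    obtain ⟨s, hs⟩ := exists_vecOf i (v := Pi.single k (1 : F)) (fun h => one_ne_zero (Pi.single_eq_zero_iff.mp h))
    have hmk : f s ∈ wsp ρ (wt ψ c (Pi.single k 1)) := hs ▸ hfwt s
    obtain ⟨g1, hg1, hg1fix⟩ := exists_gl k v' hv'0
    obtain ⟨hfix1, hfix2⟩ := hg1fix j hkj.symm (by simp [hv'])
    have hvec : vecOf i (dualGL g1 * (trEl k j hkj (-(v j)) * s)) = v := by
      rw [vecOf_mul, vecOf_mul, hs, coe_dualGL_inv, Matrix.transpose_transpose, coe_trEl_inv, neg_neg,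
        Matrix.transpose_add, Matrix.transpose_one, Matrix.transpose_single, Matrix.add_mulVec, Matrix.one_mulVec,
        Matrix.single_mulVec, Pi.single_eq_same, mul_one, Matrix.mulVec_add, hg1]
      have e : (g1 : Matrix (Fin n) (Fin n) F) *ᵥ Function.update (0 : Fin n → F) j (v j) = Function.update (0 : Fin n → F) j (v j) := by
        ext l
        have := congrFun (congrFun hfix1 l) j
        rw [Matrix.mul_single_apply_same, mul_one] at this
        simp [Matrix.mulVec, dotProduct, Function.update_apply, this, Matrix.single_apply, eq_comm]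
      rw [e, hv']
      ext l
      rcases eq_or_ne l j with rfl | hl <;> simp_all
    obtain ⟨r, hr⟩ := Submodule.mem_span_singleton.mp
      (line_of_vecOf hψ h2 hR hc hm hneg (g := g) (g' := dualGL g1 * (trEl k j hkj (-(v j)) * s))
        (Or.inl hvec.symm))
    rw [show f g = r • ρ (leviHom (dualGL g1 * (trEl k j hkj (-(v j)) * s))) m from hr.symm, map_smul]
    refine Submodule.smul_mem _ _ ?_
    obtain ⟨hd1, hd2⟩ := dualGL_fix hfix1 hfix2
    simp only [map_mul, Module.End.mul_apply]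
    rw [← rho_mul_apply (wEl j),
      wEl_comm_leviHom j _ hd1 hd2, rho_mul_apply]
    refine hU0L _ _ ?_
    have hB := wEl_bspan hψ h2 hR hkj hc hmk (x := ρ (leviHom (trEl k j hkj (-(v j)))) (f s))
      (Submodule.subset_span ⟨_, rfl⟩)
    refine (Submodule.span_le.mpr ?_) hB
    rintro _ ⟨y, rfl⟩
    exact hU0L _ _ (hgen s)
  have hsupp : ∀ j g, (¬ ∃ k, k ≠ j ∧ vecOf i g k ≠ 0) → Fix ρ j (f g) := by
    intro j g hg S hS
    push Not at hg
    rw [hfwt g S, wt_apply]
    have : vecOf i g = vecOf i g j • Pi.single j 1 := by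
      ext l; rcases eq_or_ne l j with rfl | hl <;> simp_all
    rw [this]
    simp [Matrix.mulVec_smul, hS]
  -- the vector fixed by the radical
  set v0 := ρ (wEl i) m with hv0
  have hmfix : Fix ρ i m := fun S hS => by
    rw [hm S, wt_apply]
    simp [hS]
  have hv0fix : Fix ρ i v0 := fun S hS => by
    rw [hv0, ← rho_mul_apply, ← wEl_comm_siegelU i S hS, rho_mul_apply, hmfix S hS]
  let R : Submodule ℂ V :=
    { carrier := {x | Fix ρ a x}
      add_mem' := fun {x y} hx hy S hS => by rw [map_add, hx S hS, hy S hS]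
      zero_mem' := fun S _ => map_zero _
      smul_mem' := fun r x hx S hS => by rw [map_smul, hx S hS] }
  have hwa : ∀ x ∈ U0, ρ (wEl a) x ∈ U0 ⊔ R := by
    intro x hx
    induction hx using Submodule.span_induction with
    | mem v hv =>
      obtain ⟨g, rfl⟩ := hv
      by_cases hg : ∃ k, k ≠ a ∧ vecOf i g k ≠ 0
      · exact Submodule.mem_sup_left (hoff a g hg)
      · refine Submodule.mem_sup_right ?_
        intro S hS
        rw [← rho_mul_apply, ← wEl_comm_siegelU a S hS, rho_mul_apply, hsupp a g hg S hS]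
    | zero => rw [map_zero]; exact Submodule.zero_mem _
    | add v w _ _ hv hw => rw [map_add]; exact Submodule.add_mem _ hv hw
    | smul r v _ hv => rw [map_smul]; exact Submodule.smul_mem _ _ hv
  have hv0mem : v0 ∈ U0 ⊔ R := by
    have hm' := mem_span_translates hψ h2 hR hai.symm hc hm
    have : ∀ x ∈ Submodule.span ℂ {v | ∃ y : F, y ≠ 0 ∧ (v = ρ (leviHom (trEl i a hai.symm y)) m ∨
        v = ρ (wEl a) (ρ (leviHom (trEl i a hai.symm y)) m))}, ρ (wEl i) x ∈ U0 ⊔ R := by
      intro x hx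
      induction hx using Submodule.span_induction with
      | mem v hv =>
        obtain ⟨y, hy, hv⟩ := hv
        have h1 : ρ (wEl i) (f (trEl i a hai.symm y)) ∈ U0 := hoff i _ ⟨a, hai, by
          rw [vecOf, coe_trEl_inv]
          simp [Matrix.add_mulVec, Matrix.single_mulVec, hai, hy]⟩
        rcases hv with rfl | rfl
        · exact Submodule.mem_sup_left h1
        · rw [← rho_mul_apply, wEl_comm_wEl hai.symm, rho_mul_apply]
          exact hwa _ h1
      | zero => rw [map_zero]; exact Submodule.zero_mem _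
      | add v w _ _ hv hw => rw [map_add]; exact Submodule.add_mem _ hv hw
      | smul r v _ hv => rw [map_smul]; exact Submodule.smul_mem _ _ hv
    exact this m hm'
  set ξ := wproj ρ 0 v0 with hξ
  have hsub : ∀ χ, χ ≠ 0 → wproj ρ χ v0 ∈ U0 := by
    intro χ hχ
    obtain ⟨u, hu, r, hr, hur⟩ := Submodule.mem_sup.mp hv0mem
    by_cases h0 : wproj ρ χ v0 = 0
    · rw [h0]; exact Submodule.zero_mem _
    have hrz : wproj ρ χ r = 0 := by
      by_contra hr0
      have hproj : ∀ (j : Fin n) (x : V), Fix ρ j x → Fix ρ j (wproj ρ χ x) := fun j x hx S hS => by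
        rw [← Module.End.mul_apply, ← wproj_comm, Module.End.mul_apply, hx S hS]
      obtain ⟨c1, h1⟩ := fix_shape hψ hR (wproj_mem ρ χ _) h0 (hproj i v0 hv0fix)
      obtain ⟨c2, h2'⟩ := fix_shape hψ hR (wproj_mem ρ χ _) hr0 (hproj a r hr)
      have := wt_entry hψ h2 (h1.symm.trans h2') i i
      simp [hai.symm] at this
      exact hχ (by rw [h1, this, wt_zero_coef])
    rw [← hur, map_add, hrz, add_zero]
    exact (hU0P χ u hu).1
  have hdiff : v0 - ξ ∈ U0 := by
    have : v0 - ξ = ∑ χ ∈ Finset.univ.erase 0, wproj ρ χ v0 := by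
      rw [hξ, sub_eq_iff_eq_add, Finset.sum_erase_add _ _ (Finset.mem_univ _), sum_wproj]
    rw [this]
    exact Submodule.sum_mem _ fun χ hχ => hsub χ (Finset.ne_of_mem_erase hχ)
  have hξA : ∀ S, ρ (siegelU S) ξ = ξ := fun S => by
    rw [hξ, wproj_mem ρ 0 v0 S, AddChar.zero_apply, one_smul]
  have hξtr : ∀ k l (h : k ≠ l) x, ρ (leviHom (trEl k l h x)) ξ = ξ := fun k l h x =>
    trEl_fix hψ h2 hR h (fun S _ => hξA S) x
  have hξdg : ∀ k, k ≠ i → ∀ t, ρ (leviHom (dgEl k t)) ξ ∈ ℂ ∙ ξ := by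
    intro k hk t
    obtain ⟨μ, hμ⟩ := dgEl_scalar hψ h2 hR hk.symm hc t
    have hE : Matrix.single i i (1 : F) * Matrix.single k k ((t : F) - 1) = 0 :=
      Matrix.single_mul_single_of_ne _ _ _ _ hk.symm _
    have hE' : Matrix.single k k ((t : F) - 1) * Matrix.single i i (1 : F) = 0 :=
      Matrix.single_mul_single_of_ne _ _ _ _ hk _
    have h0 : (0 : AddChar (symMat n F) ℂ).compAddMonoidHom (congrSym (dgEl k t)⁻¹).toAddMonoidHom = 0 := by
      ext S; simp
    refine Submodule.mem_span_singleton.mpr ⟨μ, ?_⟩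
    rw [hξ, leviHom_wproj, h0, ← map_smul, hv0, ← rho_mul_apply,
      ← wEl_comm_leviHom i _ (by rw [coe_dgEl, add_mul, one_mul, hE', add_zero])
        (by rw [coe_dgEl, mul_add, mul_one, hE, add_zero]),
      rho_mul_apply, hμ m hm]
    simp only [map_smul]
  have hξL : ∀ g, ρ (leviHom g) ξ ∈ ℂ ∙ ξ := by
    refine gl_induction (fun g => ρ (leviHom g) ξ ∈ ℂ ∙ ξ) ?_ ?_ ?_ ?_
    · simp only [map_one, Module.End.one_apply]; exact Submodule.mem_span_singleton_self ξ
    · intro g h hg hh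
      obtain ⟨r, hr⟩ := Submodule.mem_span_singleton.mp hh
      rw [map_mul, rho_mul_apply, ← hr, map_smul]
      exact Submodule.smul_mem _ _ hg
    · intro k l h x; rw [hξtr k l h x]; exact Submodule.mem_span_singleton_self ξ
    · intro k t
      by_cases hk : k = i
      · subst hk
        have e : dgEl k t = swEl k a hai.symm * dgEl a t * (swEl k a hai.symm)⁻¹ := by
          rw [← dgEl_mul_swEl, mul_inv_cancel_right]
        have hsw : ρ (leviHom (swEl k a hai.symm)) ξ = ξ := by
          simp only [swEl, map_mul, Module.End.mul_apply, hξtr]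
        have hsw' : ρ (leviHom (swEl k a hai.symm))⁻¹ ξ = ξ := by
          conv_lhs => rw [← hsw]
          rw [rho_inv_apply]
        obtain ⟨r, hr⟩ := Submodule.mem_span_singleton.mp (hξdg a hai t)
        rw [e]
        simp only [map_mul, map_inv, Module.End.mul_apply]
        rw [hsw', ← hr, map_smul, hsw]
        exact Submodule.smul_mem _ _ (Submodule.mem_span_singleton_self ξ)
      · exact hξdg k hk t
  set U := U0 ⊔ (ℂ ∙ ξ) with hU
  have hUL : ∀ g, ∀ x ∈ U, ρ (leviHom g) x ∈ U := by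
    intro g x hx
    obtain ⟨u, hu, r, hr, rfl⟩ := Submodule.mem_sup.mp hx
    obtain ⟨s, rfl⟩ := Submodule.mem_span_singleton.mp hr
    rw [map_add, map_smul]
    exact Submodule.add_mem_sup (hU0L g u hu) (Submodule.smul_mem _ _ (hξL g))
  have hU0A : ∀ S, ∀ x ∈ U0, ρ (siegelU S) x ∈ U0 := by
    intro S x hx
    induction hx using Submodule.span_induction with
    | mem v hv =>
      obtain ⟨g, rfl⟩ := hv
      rw [hfwt g S]
      exact Submodule.smul_mem _ _ (hgen g)
    | zero => rw [map_zero]; exact Submodule.zero_mem _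
    | add v w _ _ hv hw => rw [map_add]; exact Submodule.add_mem _ hv hw
    | smul r v _ hv => rw [map_smul]; exact Submodule.smul_mem _ _ hv
  have hUA : ∀ S, ∀ x ∈ U, ρ (siegelU S) x ∈ U := by
    intro S x hx
    obtain ⟨u, hu, r, hr, rfl⟩ := Submodule.mem_sup.mp hx
    obtain ⟨s, rfl⟩ := Submodule.mem_span_singleton.mp hr
    rw [map_add, map_smul, hξA]
    exact Submodule.add_mem_sup (hU0A S u hu) hr
  have hwi : ∀ x ∈ U0, ρ (wEl i) x ∈ U := by
    intro x hx
    induction hx using Submodule.span_induction with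
    | mem v hv =>
      obtain ⟨g, rfl⟩ := hv
      by_cases hg : ∃ k, k ≠ i ∧ vecOf i g k ≠ 0
      · exact Submodule.mem_sup_left (hoff i g hg)
      · push Not at hg
        have hx0 : vecOf i g i ≠ 0 := fun h => vecOf_ne_zero i g (funext fun l => by
          rcases eq_or_ne l i with rfl | hl
          · exact h
          · exact hg l hl)
        set t : Fˣ := (Units.mk0 _ hx0)⁻¹
        have hd : vecOf i (dgEl i t) = vecOf i g := by
          rw [vecOf, coe_dgEl_inv]
          ext l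
          rcases eq_or_ne l i with rfl | hl
          · simp [Matrix.add_mulVec, Matrix.single_mulVec, t]
          · simp [Matrix.add_mulVec, Matrix.single_mulVec, Matrix.single_apply, hl, Ne.symm hl, hg l hl]
        obtain ⟨r, hr⟩ := Submodule.mem_span_singleton.mp
          (line_of_vecOf hψ h2 hR hc hm hneg (g := g) (g' := dgEl i t) (Or.inl hd.symm))
        rw [show f g = r • ρ (leviHom (dgEl i t)) m from hr.symm, map_smul, ← rho_mul_apply,
          leviHom_dgEl_inv_wEl, rho_mul_apply]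
        refine Submodule.smul_mem _ _ (hUL _ _ ?_)
        rw [← hv0, show v0 = (v0 - ξ) + ξ by abel]
        exact Submodule.add_mem_sup hdiff (Submodule.mem_span_singleton_self ξ)
    | zero => rw [map_zero]; exact Submodule.zero_mem _
    | add v w _ _ hv hw => rw [map_add]; exact Submodule.add_mem _ hv hw
    | smul r v _ hv => rw [map_smul]; exact Submodule.smul_mem _ _ hv
  have hwξ : ρ (wEl i) ξ ∈ U := by
    have : ρ (wEl i) ξ = ρ (wEl i) v0 - ρ (wEl i) (v0 - ξ) := by rw [map_sub, sub_sub_cancel]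
    rw [this]
    refine Submodule.sub_mem _ ?_ (hwi _ hdiff)
    rw [hv0, ← rho_mul_apply, wEl_mul_self]
    exact Submodule.mem_sup_left (hgen _)
  have hUw : ∀ x ∈ U, ρ (wEl i) x ∈ U := by
    intro x hx
    obtain ⟨u, hu, r, hr, rfl⟩ := Submodule.mem_sup.mp hx
    obtain ⟨s, rfl⟩ := Submodule.mem_span_singleton.mp hr
    rw [map_add, map_smul]
    exact Submodule.add_mem _ (hwi u hu) (Submodule.smul_mem _ _ hwξ)
  let H : Subgroup (Matrix.symplecticGroup (Fin n) F) :=
    { carrier := {g | (∀ x ∈ U, ρ g x ∈ U) ∧ ∀ x ∈ U, ρ g⁻¹ x ∈ U}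
      mul_mem' := fun {g h} hg hh => ⟨fun x hx => by rw [rho_mul_apply]; exact hg.1 _ (hh.1 x hx),
        fun x hx => by rw [_root_.mul_inv_rev, rho_mul_apply]; exact hh.2 _ (hg.2 x hx)⟩
      one_mem' := ⟨fun x hx => by rw [map_one]; exact hx, fun x hx => by rw [inv_one, map_one]; exact hx⟩
      inv_mem' := fun {g} hg => ⟨hg.2, by rw [inv_inv]; exact hg.1⟩ }
  have hH : H = ⊤ := eq_top_of_mem i H
    (fun S => ⟨hUA S, by rw [← AddChar.map_neg_eq_inv]; exact hUA _⟩)
    (fun g => ⟨hUL g, by rw [← map_inv]; exact hUL _⟩)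
    ⟨hUw, fun x hx => by rw [wEl_inv, rho_mul_apply]; exact hUw _ (hUL _ x hx)⟩
  refine ⟨U, fun g => (show g ∈ H by rw [hH]; trivial).1, ?_, ?_, ?_⟩
  · refine Submodule.mem_sup_left ?_
    have : f 1 = m := by simp [hf]
    rw [← this]; exact hgen 1
  · refine (Submodule.finrank_add_le_finrank_add_finrank U0 (ℂ ∙ ξ)).trans (Nat.add_le_add ?_ ?_)
    · have hch : ∀ χ : {x // x ∈ wtSet ψ n c}, ∃ g, wt ψ c (vecOf i g) = χ.1 := fun χ => by
        obtain ⟨v, hv, hχ⟩ := mem_wtSet.mp χ.2
        obtain ⟨g, hg⟩ := exists_vecOf i hv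
        exact ⟨g, by rw [hg, hχ]⟩
      choose gc hgc using hch
      have hle : U0 ≤ Submodule.span ℂ (Set.range fun χ : {x // x ∈ wtSet ψ n c} => f (gc χ)) := by
        rw [hU0, Submodule.span_le]
        rintro _ ⟨g, rfl⟩
        set χ : {x // x ∈ wtSet ψ n c} := ⟨_, mem_wtSet.mpr ⟨_, vecOf_ne_zero i g, rfl⟩⟩ with hχ
        have h := (wt_eq_iff hψ h2 hc).mp (hgc χ)
        have hl := line_of_vecOf hψ h2 hR hc hm hneg (g := g) (g' := gc χ) h
        exact (Submodule.span_mono (Set.singleton_subset_iff.mpr (Set.mem_range_self χ))) hl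
      refine (Submodule.finrank_mono hle).trans ?_
      refine (finrank_range_le_card (R := ℂ) _).trans ?_
      rw [Fintype.card_coe]
    · exact (finrank_span_le_card ({ξ} : Set V)).trans (by simp)
  · intro χ hχ x hx h0
    obtain ⟨u, hu, r, hr, rfl⟩ := Submodule.mem_sup.mp hx
    obtain ⟨s, rfl⟩ := Submodule.mem_span_singleton.mp hr
    have : wproj ρ χ ξ = 0 := wproj_of_mem_ne ρ (fun S => by rw [hξA, AddChar.zero_apply, one_smul]) hχ.symm
    rw [map_add, map_smul, this, smul_zero, add_zero] at h0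
    exact (hU0P χ u hu).2 h0

end CfsgLib.WeilRankOne
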